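import Cfsg.Agent.Lib.CharCore.Virtual
import Cfsg.Agent.Lib.CharCore.Linear
import Cfsg.Agent.Lib.CharClifford.Galois
import Cfsg.Agent.Lib.SmallGroups.SelfCent.Gram
import Mathlib.GroupTheory.FiniteAbelian.Duality
import Mathlib.Analysis.Complex.Polynomial.Basic

/-!
# Counting from the values on the free orbits of an abelian defect group

Decomposition numbers on the subsections of a free action give integer vectors with Gram matrix
`1 + e`, indexed by the orbits of non-trivial linear characters; their shape bounds the number of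
characters.
-/

set_option autoImplicit false
set_option linter.unusedSectionVars false

namespace Cfsg.Agent.BlkChar.FreeAbelian

open scoped Classical ComplexConjugate

/-! ### Integer vectors -/

section Squares

variable {ι : Type*}

theorem card_le_sum_sq (s : Finset ι) (c : ι → ℤ) (hc : ∀ x ∈ s, c x ≠ 0) :
    (s.card : ℤ) ≤ ∑ x ∈ s, c x * c x := by
  rw [Finset.card_eq_sum_ones, Nat.cast_sum]
  refine Finset.sum_le_sum fun x hx => ?_
  have := mul_self_pos.mpr (hc x hx)
  push_cast
  linarith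

theorem card_eq_of_sum_sq_lt (s : Finset ι) (c : ι → ℤ) (hc : ∀ x ∈ s, c x ≠ 0)
    (h : ∑ x ∈ s, c x * c x < (s.card : ℤ) + 3) : ∑ x ∈ s, c x * c x = (s.card : ℤ) := by
  have hone : ∀ x ∈ s, c x * c x = 1 := by
    intro x hx
    have h1 : ∀ y ∈ s, 0 ≤ c y * c y - 1 := fun y hy => by
      have := mul_self_pos.mpr (hc y hy); linarith
    have h2 := Finset.single_le_sum h1 hx
    rw [Finset.sum_sub_distrib] at h2
    simp only [Finset.sum_const, nsmul_eq_mul, mul_one] at h2
    have h3 : -1 ≤ c x ∧ c x ≤ 1 := ⟨by nlinarith, by nlinarith⟩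
    have h4 := hc x hx
    rcases (by omega : c x = 1 ∨ c x = -1) with h5 | h5 <;> simp [h5]
  rw [Finset.sum_congr rfl hone]
  simp

variable [Fintype ι] {O : Type*} [Fintype O]

/-- Integer vectors with Gram matrix `1 + e`, orthogonal to positive weights and without a common
zero: there are at most `e` coordinates beyond their number, exactly `e` for small `e` apart from
few exceptions. -/
theorem count_vectors (w : ι → ℤ) (hw : ∀ x, 0 < w x) (v : O → ι → ℤ) (e l n : ℕ) (hl : 0 < l)
    (hn : Fintype.card O = n) (hn1 : 0 < n) (hk : Fintype.card ι = l + n)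
    (hgram : ∀ i j, ∑ x, v i x * v j x = (if i = j then 1 else 0) + (e : ℤ))
    (hdeg : ∀ i, ∑ x, w x * v i x = 0) (hne : ∀ x, ∃ i, v i x ≠ 0) :
    l ≤ e ∧ (e ≤ 3 → l = e ∨ (3 ≤ n ∧ n ≤ e + 1)) := by
  rcases (by omega : n = 1 ∨ 2 ≤ n) with rfl | hn2
  · obtain ⟨i₀, hi₀⟩ := Fintype.card_eq_one_iff.mp hn
    have hv : ∀ x ∈ (Finset.univ : Finset ι), v i₀ x ≠ 0 := fun x _ => by
      obtain ⟨i, hi⟩ := hne x
      rwa [hi₀ i] at hi
    have hnorm : ∑ x, v i₀ x * v i₀ x = (e : ℤ) + 1 := by rw [hgram, if_pos rfl]; ring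
    have hle : (Fintype.card ι : ℤ) ≤ (e : ℤ) + 1 := by
      rw [← hnorm]; exact card_le_sum_sq _ _ hv
    refine ⟨by omega, fun he3 => Or.inl ?_⟩
    by_contra hne'
    -- the small cases
    have hlt := card_eq_of_sum_sq_lt Finset.univ (v i₀) hv
    rw [hnorm, Finset.card_univ, hk] at hlt
    have := hlt (by push_cast; omega)
    push_cast at this
    omega
  · have : Nontrivial O := Fintype.one_lt_card_iff_nontrivial.mp (by omega)
    obtain ⟨ε, f, c, d, b, hε, hf, hv, hfd, -, hnorm, -⟩ :=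
      SmallGroups.SelfCent.exists_exceptional w hw v e hgram hdeg
    set X : Finset ι := (Finset.univ.image f)ᶜ with hX
    have himg : (Finset.univ.image f).card = n := by
      rw [Finset.card_image_of_injective _ hf, Finset.card_univ, hn]
    have hXcard : X.card = l := by rw [hX, Finset.card_compl, himg]; omega
    have hXc : ∀ x ∈ X, c x ≠ 0 := by
      intro x hx hc0
      obtain ⟨i, hi⟩ := hne x
      rw [hv, hc0, zero_add] at hi
      refine hi (if_neg fun h => ?_)
      rw [hX, Finset.mem_compl] at hx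
      exact hx (h ▸ Finset.mem_image_of_mem f (Finset.mem_univ i))
    have hsplit : ∑ x, c x * c x = (n : ℤ) * (d * d) + ∑ x ∈ X, c x * c x := by
      rw [← Finset.sum_add_sum_compl (Finset.univ.image f), ← hX,
        Finset.sum_image (fun a _ b _ h => hf h)]
      simp [hfd, hn]
    have hS : (l : ℤ) ≤ ∑ x ∈ X, c x * c x := hXcard ▸ card_le_sum_sq X c hXc
    have hn2' : (2 : ℤ) ≤ (n : ℤ) := by exact_mod_cast hn2
    have hA : 0 ≤ (n : ℤ) * (d * d) + 2 * ε * d := by
      rcases le_total 0 d with h | h <;> rcases eq_or_ne d 0 with h0 | h0 <;>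
        rcases hε with rfl | rfl
      all_goals first
        | (subst h0; simp; done)
        | nlinarith [mul_self_pos.mpr h0]
        | (have : 1 ≤ d := by omega
           nlinarith)
        | (have : d ≤ -1 := by omega
           nlinarith)
    refine ⟨by linarith, fun he3 => ?_⟩
    by_contra hcon
    obtain ⟨hle, hex⟩ := not_or.mp hcon
    have he3' : (e : ℤ) ≤ 3 := by exact_mod_cast he3
    have hl1 : (1 : ℤ) ≤ (l : ℤ) := by exact_mod_cast hl
    have hSX : ∑ x ∈ X, c x * c x = (l : ℤ) := by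
      rw [← hXcard]
      refine card_eq_of_sum_sq_lt X c hXc ?_
      rw [hXcard]
      linarith
    have hlt : (l : ℤ) < (e : ℤ) := by omega
    have hd : d = 1 ∨ d = -1 := by
      have hd0 : d ≠ 0 := fun h => by subst h; linarith
      by_contra hd1
      have : 2 ≤ d ∨ d ≤ -2 := by omega
      rcases this with h | h <;> rcases hε with rfl | rfl <;> nlinarith
    refine hex ?_
    rcases hd with rfl | rfl <;> rcases hε with rfl | rfl <;> constructor <;> omega

end Squares

/-! ### Linear characters -/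

section Dual

variable {P : Type*} [CommGroup P] [Fintype P]

instance : Finite (P →* ℂˣ) :=
  Finite.of_equiv _ (CharCore.linearEquivHom (G := P)).symm

theorem sum_hom_eq (φ : P →* ℂˣ) :
    ∑ u, ((φ u : ℂˣ) : ℂ) = if φ = 1 then (Fintype.card P : ℂ) else 0 := by
  split_ifs with h
  · subst h; simp
  · refine sum_hom_units_eq_zero ((Units.coeHom ℂ).comp φ) fun h' => h ?_
    ext u
    simpa using DFunLike.congr_fun h' u

theorem conj_hom_apply (φ : P →* ℂˣ) (u : P) :
    conj ((φ u : ℂˣ) : ℂ) = ((φ⁻¹ u : ℂˣ) : ℂ) := by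
  rw [← Complex.inv_eq_conj (CharCore.norm_hom_apply φ u)]
  simp

theorem sum_dual_apply [Fintype (P →* ℂˣ)] (u : P) :
    ∑ φ : P →* ℂˣ, ((φ u : ℂˣ) : ℂ) = if u = 1 then (Fintype.card (P →* ℂˣ) : ℂ) else 0 := by
  split_ifs with h
  · subst h; simp
  · obtain ⟨φ₀, hφ₀⟩ := CommGroup.exists_apply_ne_one_of_hasEnoughRootsOfUnity P ℂ h
    refine sum_hom_units_eq_zero (R := ℂ) ((Units.coeHom ℂ).comp (MonoidHom.eval u)) fun h' => hφ₀ ?_
    simpa using DFunLike.congr_fun h' φ₀

theorem card_dual [Fintype (P →* ℂˣ)] : Fintype.card (P →* ℂˣ) = Fintype.card P := by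
  have h1 : ∑ φ : P →* ℂˣ, ∑ u : P, ((φ u : ℂˣ) : ℂ) = (Fintype.card P : ℂ) := by
    simp [sum_hom_eq]
  rw [Finset.sum_comm] at h1
  simp [sum_dual_apply] at h1
  exact_mod_cast h1

/-- A function whose sums against the linear characters agree is supported at the identity. -/
theorem eq_zero_of_sum_hom_mul_eq (F : P → ℂ) {r : ℂ}
    (h : ∀ φ : P →* ℂˣ, ∑ u, ((φ u : ℂˣ) : ℂ) * F u = r) {v : P} (hv : v ≠ 1) : F v = 0 := by
  have := Fintype.ofFinite (P →* ℂˣ)
  have h1 : ∑ φ : P →* ℂˣ, ((φ v⁻¹ : ℂˣ) : ℂ) * ∑ u, ((φ u : ℂˣ) : ℂ) * F u = 0 := by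
    simp only [h, ← Finset.sum_mul]
    rw [sum_dual_apply, if_neg (inv_ne_one.mpr hv), zero_mul]
  simp only [Finset.mul_sum] at h1
  rw [Finset.sum_comm] at h1
  have h2 : ∀ u, ∑ φ : P →* ℂˣ, ((φ v⁻¹ : ℂˣ) : ℂ) * (((φ u : ℂˣ) : ℂ) * F u) =
      (if v⁻¹ * u = 1 then (Fintype.card (P →* ℂˣ) : ℂ) else 0) * F u := fun u => by
    rw [← sum_dual_apply, Finset.sum_mul]
    exact Finset.sum_congr rfl fun φ _ => by simp [mul_assoc]
  simp only [h2, inv_mul_eq_one, ite_mul, zero_mul, Finset.sum_ite_eq, Finset.mem_univ,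
    if_true] at h1
  exact (mul_eq_zero.mp h1).resolve_left (Nat.cast_ne_zero.mpr Fintype.card_ne_zero)

end Dual

/-! ### Generalised characters with invertible values -/

section Invert

variable {P : Type*} [CommGroup P]

theorem exists_product_expansion {f : P → ℂ} (hf : IsGeneralizedCharacter P f) (g : P → ℤ)
    (s : Finset P) : ∃ Q : P → ℂ, IsGeneralizedCharacter P Q ∧
      ∀ x, ∏ u ∈ s, ((g u : ℂ) - f x) = (∏ u ∈ s, (g u : ℂ)) + f x * Q x := by
  induction s using Finset.induction with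
  | empty => exact ⟨0, CharCore.isGeneralized_zero, fun x => by simp⟩
  | insert a s ha ih =>
    obtain ⟨Q, hQ, h⟩ := ih
    refine ⟨(g a : ℂ) • Q - ((∏ u ∈ s, g u : ℤ) : ℂ) • (1 : P → ℂ) - f * Q,
      CharCore.isGeneralized_sub (CharCore.isGeneralized_sub
        (CharCore.isGeneralized_intCast_smul hQ _)
        (CharCore.isGeneralized_intCast_smul CharCore.isGeneralized_one _))
        (CharCore.isGeneralized_mul hf hQ), fun x => ?_⟩
    rw [Finset.prod_insert ha, Finset.prod_insert ha, h x]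
    simp [Pi.smul_apply]
    ring

end Invert

/-- The data on the free orbits give the bounds on the number of characters. -/
theorem delta_count {P : Type*} [CommGroup P] [Finite P] {p : ℕ} [Fact p.Prime]
    (hP : IsPGroup p P) (E : Subgroup (MulAut P))
    (hE : ∀ a ∈ E, ∀ u : P, u ≠ 1 → a u = u → a = 1)
    {ι : Type*} [Fintype ι] (deg : ι → ℤ) (hdeg : ∀ χ, 0 < deg χ)
    (dl dh : ι → P → ℂ) (g : P → ℤ) (f : P → ℂ) (hf : IsGeneralizedCharacter P f)
    (hfg : ∀ v, v ≠ 1 → f v = g v) (hg : ∀ v, v ≠ 1 → ¬ (p : ℤ) ∣ g v)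
    (hdl : ∀ χ, IsGeneralizedCharacter P (dl χ))
    (hdlh : ∀ χ v, v ≠ 1 → dl χ v = g v * dh χ v)
    (hint : ∀ χ v, v ≠ 1 → IsIntegral ℤ (dh χ v))
    (hstab : ∀ χ, ∀ a ∈ E, ∀ v, v ≠ 1 → dh χ (a v) = dh χ v)
    (horth : ∀ u v, u ≠ 1 → v ≠ 1 → ∑ χ, dh χ u * conj (dh χ v) =
      (Nat.card P : ℂ) * (Nat.card {a : E // (a : MulAut P) u = v} : ℂ))
    (hsum : ∀ v, v ≠ 1 → ∑ χ, (deg χ : ℂ) * dh χ v = 0)
    (hne : ∀ χ, ∃ v, v ≠ 1 ∧ dh χ v ≠ 0)
    {e l n : ℕ} (he : Nat.card E = e) (hl : 0 < l) (hk : Fintype.card ι = l + n)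
    (hen : e * n = Nat.card P - 1) :
    l ≤ e ∧ (e ≤ 3 → l = e ∨ (3 ≤ n ∧ n ≤ e + 1)) := by
  classical
  have := Fintype.ofFinite P
  have := Fintype.ofFinite (P →* ℂˣ)
  have hEfin : Finite (MulAut P) := Finite.of_injective (fun a : MulAut P => ⇑a) DFunLike.coe_injective
  have := Fintype.ofFinite E
  rw [Nat.card_eq_fintype_card] at he hen
  -- a multiple of the inverse of `g`
  set U : Finset P := Finset.univ.erase 1 with hU
  set Gp : ℤ := ∏ u ∈ U, g u with hGp
  have hp := (Fact.out : p.Prime)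
  have hGp0 : ¬ (p : ℤ) ∣ Gp := fun h => by
    obtain ⟨u, hu, hu'⟩ := (Nat.prime_iff_prime_int.mp hp).exists_mem_finset_dvd h
    exact hg u (Finset.mem_erase.mp hu).1 hu'
  obtain ⟨Q, hQ, hQe⟩ := exists_product_expansion hf g U
  have hQg : ∀ v, v ≠ 1 → (g v : ℂ) * Q v = -(Gp : ℂ) := by
    intro v hv
    have h := hQe v
    rw [Finset.prod_eq_zero (i := v) (Finset.mem_erase.mpr ⟨hv, Finset.mem_univ v⟩)
      (by rw [hfg v hv, sub_self]), hfg v hv] at h
    rw [hGp]
    push_cast
    linear_combination -h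
  -- the vectors
  set q : ℂ := (Fintype.card P : ℂ) with hq
  have hq0 : q ≠ 0 := Nat.cast_ne_zero.mpr Fintype.card_ne_zero
  set w : (P →* ℂˣ) → ι → ℂ := fun φ χ =>
    q⁻¹ * ∑ u ∈ U, (((φ u : ℂˣ) : ℂ) - 1) * conj (dh χ u) with hw
  have hwint : ∀ φ χ, ∃ z : ℤ, w φ χ = (z : ℂ) := by
    intro φ χ
    set F : P → ℂ := fun u => -(dl χ u * Q u) with hF
    have hFgen : IsGeneralizedCharacter P F :=
      CharCore.isGeneralized_neg (CharCore.isGeneralized_mul (hdl χ) hQ)
    have hFU : ∀ u, u ≠ 1 → F u = (Gp : ℂ) * dh χ u := fun u hu => by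
      rw [hF]
      linear_combination -Q u * hdlh χ u hu - dh χ u * hQg u hu
    obtain ⟨k₁, hk₁⟩ := CharCore.IsGeneralizedCharacter.exists_classInner_eq_intCast
      (CharCore.irr_isGeneralized ⟨_, CharCore.isIrrCharacter_hom φ⟩) hFgen
    obtain ⟨k₂, hk₂⟩ := CharCore.IsGeneralizedCharacter.exists_classInner_eq_intCast
      (CharCore.isGeneralized_one (G := P)) hFgen
    have hGw : (Gp : ℂ) * w φ χ = ((k₁ - k₂ : ℤ) : ℂ) := by
      push_cast
      rw [← hk₁, ← hk₂, hw, classInner, classInner, ← mul_sub, ← Finset.sum_sub_distrib]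
      rw [mul_left_comm, Finset.mul_sum]
      congr 1
      · rw [hq, Nat.card_eq_fintype_card]
      rw [← Finset.add_sum_erase _ _ (Finset.mem_univ (1 : P)), ← hU]
      simp only [map_one, Units.val_one, Pi.one_apply, sub_self, zero_add]
      refine Finset.sum_congr rfl fun u hu => ?_
      show (Gp : ℂ) * (_ * conj (dh χ u)) = ((φ u : ℂˣ) : ℂ) * conj (F u) - 1 * conj (F u)
      rw [hFU u (Finset.mem_erase.mp hu).1, map_mul, map_intCast]
      ring
    have hqw : IsIntegral ℤ (q * w φ χ) := by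
      simp only [hw]
      rw [← mul_assoc, mul_inv_cancel₀ hq0, one_mul]
      refine IsIntegral.sum _ fun u hu => IsIntegral.mul
        (IsIntegral.sub ?_ isIntegral_one) ?_
      · exact CharCore.IsGeneralizedCharacter.isIntegral
          (CharCore.irr_isGeneralized ⟨_, CharCore.isIrrCharacter_hom φ⟩) u
      · exact map_isIntegral_int (starRingEnd ℂ) (hint χ u (Finset.mem_erase.mp hu).1)
    have hcop : IsCoprime Gp (Fintype.card P : ℤ) := by
      obtain ⟨r, hr⟩ := IsPGroup.iff_card.mp hP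
      rw [← Nat.card_eq_fintype_card, hr, Nat.cast_pow]
      exact (((Nat.prime_iff_prime_int.mp hp).coprime_iff_not_dvd).mpr hGp0).symm.pow_right
    obtain ⟨a, b, hab⟩ := hcop
    have hwI : IsIntegral ℤ (w φ χ) := by
      have : w φ χ = (a : ℂ) * ((k₁ - k₂ : ℤ) : ℂ) + (b : ℂ) * (q * w φ χ) := by
        rw [← hGw, hq]
        have hab' : ((a * Gp + b * (Fintype.card P : ℤ) : ℤ) : ℂ) = 1 := by rw [hab]; norm_num
        push_cast at hab'
        linear_combination (-w φ χ) * hab'
      rw [this]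
      exact ((isIntegral_algebraMap (x := a)).mul (isIntegral_algebraMap (x := k₁ - k₂))).add
        ((isIntegral_algebraMap (x := b)).mul hqw)
    have hG0 : (Gp : ℂ) ≠ 0 := Int.cast_ne_zero.mpr fun h => hGp0 (h ▸ dvd_zero _)
    have hrat : w φ χ = (((k₁ - k₂ : ℤ) / Gp : ℚ) : ℂ) := by
      push_cast
      push_cast at hGw
      rw [eq_div_iff hG0, mul_comm]
      exact hGw
    rw [hrat] at hwI ⊢
    obtain ⟨k, hk⟩ := CharClifford.exists_int_of_isIntegral_rat hwI
    exact ⟨k, by rw [hk]; simp⟩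
  -- the action on the linear characters
  have hfree : ∀ a ∈ E, ∀ φ : P →* ℂˣ, φ ≠ 1 → φ.comp (a : P ≃* P).toMonoidHom = φ → a = 1 := by
    intro a ha φ hφ hfix
    by_contra ha1
    refine hφ (MonoidHom.ext fun y => ?_)
    have hinj : Function.Injective fun u : P => u⁻¹ * a u := by
      intro u v h
      by_contra huv
      have h' : u⁻¹ * a u = v⁻¹ * a v := h
      refine ha1 (hE a ha (u * v⁻¹) (fun h'' => huv (mul_inv_eq_one.mp h'')) ?_)
      rw [inv_mul_eq_iff_eq_mul] at h'
      rw [map_mul, map_inv, h']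
      group
    obtain ⟨u, rfl⟩ := (Finite.injective_iff_surjective.mp hinj) y
    show φ (u⁻¹ * a u) = 1
    have := DFunLike.congr_fun hfix u
    simp only [MonoidHom.comp_apply, MulEquiv.coe_toMonoidHom] at this
    rw [map_mul, map_inv, this, inv_mul_cancel]
  let comb : (P →* ℂˣ) → E → (P →* ℂˣ) := fun φ a => φ.comp (a : MulAut P).toMonoidHom
  let S : Setoid {φ : P →* ℂˣ // φ ≠ 1} :=
    ⟨fun φ ψ => ∃ a : E, ψ.1 = comb φ.1 a, fun φ => ⟨1, MonoidHom.ext fun u => rfl⟩,
      fun {φ ψ} => fun ⟨a, ha⟩ => ⟨a⁻¹, by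
        rw [ha]; exact MonoidHom.ext fun u => by simp [comb]⟩,
      fun {φ ψ χ} => fun ⟨a, ha⟩ ⟨b, hb⟩ => ⟨a * b, by
        rw [hb, ha]; exact MonoidHom.ext fun u => by simp [comb]⟩⟩
  have := Fintype.ofFinite (Quotient S)
  let rep : Quotient S → (P →* ℂˣ) := fun o => o.out.1
  have hbij : Function.Bijective (fun x : Quotient S × E =>
      (⟨comb (rep x.1) x.2, fun h => (x.1.out.2 : _ ≠ _) (MonoidHom.ext fun u => by
        simpa [comb] using DFunLike.congr_fun h ((x.2 : MulAut P)⁻¹ u))⟩ :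
        {φ : P →* ℂˣ // φ ≠ 1})) := by
    refine ⟨fun x y h => ?_, fun φ => ?_⟩
    · obtain ⟨o, a⟩ := x
      obtain ⟨o', a'⟩ := y
      have h' : comb (rep o) a = comb (rep o') a' := Subtype.ext_iff.mp h
      obtain rfl : o = o' := by
        rw [← Quotient.out_eq o, ← Quotient.out_eq o']
        refine Quotient.sound ⟨a * a'⁻¹, MonoidHom.ext fun u => ?_⟩
        have := DFunLike.congr_fun h' ((a' : MulAut P)⁻¹ u)
        simpa [comb] using this.symm
      refine Prod.ext rfl ?_
      show a = a'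
      rw [← mul_inv_eq_one]
      refine Subtype.ext (hfree _ (a * a'⁻¹).2 (rep o) o.out.2 (MonoidHom.ext fun u => ?_))
      simpa [comb] using DFunLike.congr_fun h' ((a' : MulAut P)⁻¹ u)
    · obtain ⟨a, ha⟩ : ∃ a : E, φ.1 = comb (rep (Quotient.mk S φ)) a := Quotient.mk_out φ
      exact ⟨(Quotient.mk S φ, a), Subtype.ext ha.symm⟩
  have hcardO : Fintype.card (Quotient S) = n := by
    have h := Fintype.card_of_bijective hbij
    rw [Fintype.card_prod, Fintype.card_subtype_compl, Fintype.card_subtype_eq, card_dual, he,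
      ← hen] at h
    exact Nat.eq_of_mul_eq_mul_right (by rw [← he]; exact Fintype.card_pos)
      (h.trans (Nat.mul_comm _ _))
  have hcount : ∀ o o' : Quotient S, (Nat.card {a : E // comb (rep o') a = rep o} : ℂ) =
      if o = o' then 1 else 0 := by
    intro o o'
    split_ifs with hoo
    · subst hoo
      have h1 : Nat.card {a : E // comb (rep o) a = rep o} = 1 := by
        refine Nat.card_eq_one_iff_unique.mpr ⟨⟨fun a b => Subtype.ext ?_⟩,
          ⟨⟨1, MonoidHom.ext fun u => rfl⟩⟩⟩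
        have h : (fun x : Quotient S × E => comb (rep x.1) x.2) (o, a.1) =
            (fun x : Quotient S × E => comb (rep x.1) x.2) (o, b.1) := a.2.trans b.2.symm
        exact congrArg Prod.snd (hbij.1 (Subtype.ext h))
      rw [h1, Nat.cast_one]
    · have h0 : Nat.card {a : E // comb (rep o') a = rep o} = 0 := by
        refine Nat.card_eq_zero.mpr (Or.inl ⟨fun a => hoo ?_⟩)
        rw [← Quotient.out_eq o, ← Quotient.out_eq o']
        have hr : S o'.out o.out := ⟨a.1, a.2.symm⟩
        exact (Quotient.sound hr).symm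
      rw [h0, Nat.cast_zero]
  -- the Gram matrix
  choose z hz using hwint
  have hgram : ∀ o o' : Quotient S, ∑ χ, z (rep o) χ * z (rep o') χ =
      (if o = o' then 1 else 0) + (e : ℤ) := by
    intro o o'
    have h : ∑ χ, w (rep o) χ * conj (w (rep o') χ) =
        (if o = o' then 1 else 0) + (e : ℂ) := by
      set φ := rep o
      set ψ := rep o'
      have h1 : ∑ χ, w φ χ * conj (w ψ χ) = q⁻¹ * q⁻¹ * ∑ u ∈ U, ∑ v ∈ U,
          (((φ u : ℂˣ) : ℂ) - 1) * conj (((ψ v : ℂˣ) : ℂ) - 1) *
            ∑ χ, dh χ v * conj (dh χ u) := by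
        simp only [hw, map_mul, map_sum, map_inv₀, Complex.conj_conj, hq, map_natCast]
        simp only [Finset.mul_sum, Finset.sum_mul]
        conv_rhs => rw [Finset.sum_comm]
        conv_rhs => enter [2, v]; rw [Finset.sum_comm]
        conv_rhs => rw [Finset.sum_comm]
        refine Finset.sum_congr rfl fun χ _ => Finset.sum_congr rfl fun v _ =>
          Finset.sum_congr rfl fun u _ => ?_
        ring
      have h2 : ∀ u ∈ U, ∑ v ∈ U, (((φ u : ℂˣ) : ℂ) - 1) * conj (((ψ v : ℂˣ) : ℂ) - 1) *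
          ∑ χ, dh χ v * conj (dh χ u) =
          q * ∑ a : E, (((φ u : ℂˣ) : ℂ) - 1) *
            conj (((ψ ((a : MulAut P) u) : ℂˣ) : ℂ) - 1) := by
        intro u hu
        have hu1 := (Finset.mem_erase.mp hu).1
        have h3 : ∀ v ∈ U, ∑ χ, dh χ v * conj (dh χ u) =
            q * ∑ a : E, if (a : MulAut P) u = v then 1 else 0 := by
          intro v hv
          have h4 : ∑ χ, dh χ v * conj (dh χ u) = conj (∑ χ, dh χ u * conj (dh χ v)) := by
            simp only [map_sum, map_mul, Complex.conj_conj, mul_comm]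
          rw [h4, horth u v hu1 (Finset.mem_erase.mp hv).1, map_mul, map_natCast, map_natCast,
            Nat.card_eq_fintype_card, Finset.sum_boole, Nat.card_eq_fintype_card,
            Fintype.card_subtype, hq]
        rw [Finset.sum_congr rfl fun v hv => by rw [h3 v hv]]
        simp only [Finset.mul_sum]
        rw [Finset.sum_comm]
        refine Finset.sum_congr rfl fun a _ => ?_
        rw [Finset.sum_eq_single ((a : MulAut P) u)]
        · simp; ring
        · intro v _ hv; simp [hv.symm]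
        · intro h; exact absurd (Finset.mem_erase.mpr ⟨(map_ne_one_iff _
            (a : MulAut P).injective).mpr hu1, Finset.mem_univ _⟩) h
      rw [h1, Finset.sum_congr rfl h2, ← Finset.mul_sum, Finset.sum_comm]
      have h5 : ∀ a : E, ∑ u ∈ U, (((φ u : ℂˣ) : ℂ) - 1) *
          conj (((ψ ((a : MulAut P) u) : ℂˣ) : ℂ) - 1) =
          q * ((if comb ψ a = φ then 1 else 0) + 1) := by
        intro a
        have h6 : ∀ u, (((φ u : ℂˣ) : ℂ) - 1) * conj (((ψ ((a : MulAut P) u) : ℂˣ) : ℂ) - 1) =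
            (((φ * (comb ψ a)⁻¹) u : ℂˣ) : ℂ) - ((φ u : ℂˣ) : ℂ) -
              (((comb ψ a)⁻¹ u : ℂˣ) : ℂ) + 1 := by
          intro u
          rw [map_sub, map_one, conj_hom_apply]
          simp [comb]
          ring
        have hne' : ∀ o : Quotient S, rep o ≠ 1 := fun o => o.out.2
        have hcne : (comb ψ a)⁻¹ ≠ 1 := fun h => hne' o' (MonoidHom.ext fun u => by
          simpa [comb, inv_eq_one] using DFunLike.congr_fun h ((a : MulAut P)⁻¹ u))
        rw [Finset.sum_erase _ (by simp)]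
        have hiff : φ * (comb ψ a)⁻¹ = 1 ↔ comb ψ a = φ := by
          refine ⟨fun h => MonoidHom.ext fun u => (mul_inv_eq_one.mp ?_).symm, fun h => ?_⟩
          · simpa using DFunLike.congr_fun h u
          · rw [h]; exact MonoidHom.ext fun u => by simp
        have hφne : φ ≠ 1 := hne' o
        simp only [h6, Finset.sum_add_distrib, Finset.sum_sub_distrib, sum_hom_eq, hiff,
          if_neg hφne, if_neg hcne, Finset.sum_const, Finset.card_univ,
          nsmul_eq_mul, mul_one]
        split_ifs <;> simp [hq] <;> ring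
      rw [Finset.sum_congr rfl fun a _ => h5 a, ← Finset.mul_sum, Finset.sum_add_distrib,
        ← hcount o o', Finset.sum_boole, Nat.card_eq_fintype_card, Fintype.card_subtype,
        Finset.sum_const, Finset.card_univ, he, nsmul_eq_mul, mul_one]
      field_simp
      rfl
    simp only [hz, map_intCast] at h
    exact_mod_cast h
  refine count_vectors deg hdeg (fun o χ => z (rep o) χ) e l n hl hcardO ?_ hk
    (fun o o' => by rw [hgram o o']; split_ifs <;> rfl) ?_ ?_
  · rcases Nat.eq_zero_or_pos n with rfl | h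
    · have h1 : Fintype.card ι ≠ 0 := by omega
      obtain ⟨χ⟩ := Fintype.card_pos_iff.mp (Nat.pos_of_ne_zero h1)
      obtain ⟨v, hv, -⟩ := hne χ
      have : Nontrivial P := ⟨⟨v, 1, hv⟩⟩
      have := Fintype.one_lt_card (α := P)
      omega
    · exact h
  · intro o
    have h : ∑ χ, (deg χ : ℂ) * w (rep o) χ = 0 := by
      simp only [hw, Finset.mul_sum]
      rw [Finset.sum_comm]
      refine Finset.sum_eq_zero fun u hu => ?_
      have h0 : ∑ χ, (deg χ : ℂ) * conj (dh χ u) = 0 := by
        have := congrArg conj (hsum u (Finset.mem_erase.mp hu).1)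
        simpa [map_sum, map_mul] using this
      calc ∑ χ, (deg χ : ℂ) * (q⁻¹ * (((((rep o) u : ℂˣ) : ℂ) - 1) * conj (dh χ u)))
          = q⁻¹ * ((((rep o) u : ℂˣ) : ℂ) - 1) * ∑ χ, (deg χ : ℂ) * conj (dh χ u) := by
            rw [Finset.mul_sum]; exact Finset.sum_congr rfl fun χ _ => by ring
        _ = 0 := by rw [h0, mul_zero]
    simp only [hz] at h
    exact_mod_cast h
  · intro χ
    by_contra hall
    push Not at hall
    obtain ⟨v, hv, hv0⟩ := hne χ
    have hwz : ∀ φ : P →* ℂˣ, w φ χ = 0 := by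
      intro φ
      by_cases hφ : φ = 1
      · simp [hw, hφ]
      · obtain ⟨⟨o, a⟩, ha⟩ := hbij.2 ⟨φ, hφ⟩
        have ha' : comb (rep o) a = φ := Subtype.ext_iff.mp ha
        have h : w φ χ = w (rep o) χ := by
          simp only [hw]
          congr 1
          refine Finset.sum_nbij (fun u => (a : MulAut P) u) (fun u hu => ?_) ?_ ?_ fun u hu => ?_
          · exact Finset.mem_erase.mpr ⟨(map_ne_one_iff _ (a : MulAut P).injective).mpr
              (Finset.mem_erase.mp hu).1, Finset.mem_univ _⟩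
          · exact (a : MulAut P).injective.injOn
          · intro u hu
            refine ⟨(a : MulAut P).symm u, Finset.mem_coe.mpr (Finset.mem_erase.mpr
              ⟨fun h => (Finset.mem_erase.mp hu).1 ?_, Finset.mem_univ _⟩), by simp⟩
            simpa using congrArg (a : MulAut P) h
          · rw [hstab χ _ a.2 u (Finset.mem_erase.mp hu).1, ← ha']
            rfl
        rw [h, hz, hall o, Int.cast_zero]
    apply hv0
    have key := eq_zero_of_sum_hom_mul_eq (fun u => if u = 1 then 0 else conj (dh χ u))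
      (r := ∑ u ∈ U, conj (dh χ u)) (fun φ => ?_) hv
    · simpa [hv] using key
    · have h := hwz φ
      simp only [hw, sub_mul, one_mul, Finset.sum_sub_distrib, mul_eq_zero, inv_eq_zero, hq0,
        false_or, sub_eq_zero] at h
      rw [← h, hU, ← Finset.add_sum_erase _ _ (Finset.mem_univ (1 : P))]
      simp only [if_true, mul_zero, zero_add]
      exact Finset.sum_congr rfl fun u hu => by simp [(Finset.mem_erase.mp hu).1]

end Cfsg.Agent.BlkChar.FreeAbelian
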