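import Cfsg.Agent.BlkChar.FreeAbelian.Deltas
import Cfsg.Agent.BlkChar.FreeAbelian.Delta
import Cfsg.Agent.BlkChar.AbelianSubsection
import Cfsg.Agent.BlkChar.CyclicDefect.Props

/-!
# Counts for a block with abelian defect group and free abelian inertial quotient

The columns of the local blocks give integral vectors with Gram matrix `1 + e`, whence `l(B) ≤ e`,
with equality when `e ≤ 3`.
-/

set_option autoImplicit false
set_option linter.unusedSectionVars false
set_option linter.style.haveILetI false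

namespace Cfsg.Agent.BlkChar.FreeAbelian.Counts

open BlocksCore BlocksDefect BC85
open scoped Classical ComplexConjugate

universe u

variable {G : Type u} [Group G] [Fintype G] {p : ℕ} [Fact p.Prime] {M : Ideal AlgInt}
  [hPr : M.IsPrime]

local notation "C[" Q "]" => Subgroup.centralizer (Q : Set G)

theorem blockRank_pos {B : Set (IrrCharacter G)} (hB : IsPBlock M B) : 0 < blockRank p B := by
  obtain ⟨χ, hχ⟩ := isPBlock_nonempty hB
  refine Nat.pos_of_ne_zero fun h0 => ?_
  rw [blockRank, Submodule.finrank_eq_zero] at h0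
  have hmem : pRegularPart p (χ : G → ℂ) ∈ Submodule.span ℂ
      ((fun ψ : IrrCharacter G => pRegularPart p (ψ : G → ℂ)) '' B) :=
    Submodule.subset_span ⟨χ, hχ, rfl⟩
  rw [h0, Submodule.mem_bot] at hmem
  have h1 := congrFun hmem 1
  rw [pRegularPart_pos (by rw [orderOf_one]; exact (Fact.out : p.Prime).not_dvd_one)] at h1
  exact irr_one_ne_zero χ h1

variable {B : Set (IrrCharacter G)} {P : Subgroup G}
  {c : Set (IrrCharacter (Subgroup.centralizer (P : Set G)))}
  (hM : IsPModular p M) (hmax : IsMaximalBrauerPair p M B P c)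
  (hab : ∀ x ∈ P, ∀ y ∈ P, x * y = y * x)
  (hfree : ∀ g : G, g ∈ stabT P c → ∀ x : G, x ∈ P → x ≠ 1 → g * x * g⁻¹ = x →
    g ∈ Subgroup.centralizer ((P : Subgroup G) : Set G))

variable (P c) in
/-- The action of the stabilizer of the pair on the defect group. -/
noncomputable def actHom : stabT P c →* MulAut P :=
  P.normalizerMonoidHom.comp
    (Subgroup.inclusion (fun _ h => (mem_stabT_iff.mp h).1))

theorem actHom_apply (t : stabT P c) (u : P) :
    ((actHom P c t u : P) : G) = (t : G) * u * (t : G)⁻¹ := rfl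

variable (P c) in
theorem card_range_actHom :
    Nat.card (actHom P c).range = C[P].relIndex (stabT P c) := by
  rw [← Subgroup.index_ker, Subgroup.relIndex]
  congr 1
  ext t
  rw [MonoidHom.mem_ker, Subgroup.mem_subgroupOf, Subgroup.mem_centralizer_iff]
  refine ⟨fun h u hu => ?_, fun h => MulEquiv.ext fun u => Subtype.ext ?_⟩
  · have := congrArg Subtype.val (DFunLike.congr_fun h (⟨u, hu⟩ : P))
    rw [actHom_apply] at this
    exact (mul_inv_eq_iff_eq_mul.mp this).symm
  · rw [actHom_apply]
    exact mul_inv_eq_iff_eq_mul.mpr (h u u.2).symm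

include hM hmax hab hfree

theorem card_bound (hB : IsPBlock M B) (hP1 : P ≠ ⊥) :
    blockRank p B ≤ C[P].relIndex (stabT P c) ∧
      C[P].relIndex (stabT P c) * Nat.card B =
        C[P].relIndex (stabT P c) * blockRank p B + (Nat.card P - 1) ∧
      (C[P].relIndex (stabT P c) ≤ 3 → blockRank p B = C[P].relIndex (stabT P c)) := by
  have := finite_irr (G := G)
  have := Fintype.ofFinite B
  set e := C[P].relIndex (stabT P c) with he
  have hk := AbelianSubsection.mul_card_eq hM hmax hab hfree hB
  rw [← he] at hk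
  have hep : 0 < e := by
    rw [he, ← card_range_actHom P c]
    exact Nat.card_pos
  have hq : 1 < Nat.card P := P.one_lt_card_iff_ne_bot.mpr hP1
  set l := blockRank p B with hl
  have hkl : l ≤ Nat.card B := by
    by_contra h
    have := Nat.mul_lt_mul_of_pos_left (not_le.mp h) hep
    omega
  set n := Nat.card B - l with hn
  have hen : e * n = Nat.card P - 1 := by
    rw [hn, Nat.mul_sub]
    omega
  obtain ⟨dl, dh, g, f, hf, hfg, hg, hdl, hdlh, hint, hstab, horth, hdeg0, hne⟩ :=
    exists_deltas hM hmax hab hfree hP1 (B := B)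
  letI : CommGroup P := { (inferInstance : Group P) with
    mul_comm := fun x y => Subtype.ext (hab x x.2 y y.2) }
  choose deg hdeg0' hdeg using fun χ : B =>
    CharCore.IsIrrCharacter.exists_degree (χ : IrrCharacter G).2
  have hE : ∀ a ∈ (actHom P c).range, ∀ u : P, u ≠ 1 → a u = u → a = 1 := by
    rintro _ ⟨t, rfl⟩ u hu h
    have ht := hfree t t.2 u u.2 (fun h' => hu (Subtype.ext h'))
      (by rw [← actHom_apply]; exact congrArg Subtype.val h)
    refine MulEquiv.ext fun v => Subtype.ext ?_
    rw [actHom_apply]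
    exact mul_inv_eq_iff_eq_mul.mpr (Subgroup.mem_centralizer_iff.mp ht v v.2).symm
  have horth' : ∀ u v : P, u ≠ 1 → v ≠ 1 → ∑ χ, dh χ u * conj (dh χ v) =
      (Nat.card P : ℂ) * (Nat.card {a : (actHom P c).range // (a : MulAut P) u = v} : ℂ) := by
    intro u v hu hv
    rw [horth u v hu hv]
    split_ifs with h
    · obtain ⟨t, ht, htu⟩ := h
      have h1 : Nat.card {a : (actHom P c).range // (a : MulAut P) u = v} = 1 := by
        refine Nat.card_eq_one_iff_unique.mpr ⟨⟨fun a b => Subtype.ext (Subtype.ext ?_)⟩,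
          ⟨⟨⟨_, ⟨t, ht⟩, rfl⟩, Subtype.ext htu⟩⟩⟩
        refine inv_mul_eq_one.mp (hE _ (mul_mem (inv_mem a.1.2) b.1.2) u hu ?_)
        show (a.1.1)⁻¹ (b.1.1 u) = u
        rw [b.2]
        exact (MulEquiv.symm_apply_eq _).mpr a.2.symm
      rw [h1, Nat.cast_one, mul_one]
    · have h0 : Nat.card {a : (actHom P c).range // (a : MulAut P) u = v} = 0 := by
        refine Nat.card_eq_zero.mpr (Or.inl ⟨fun a => ?_⟩)
        obtain ⟨⟨_, t, rfl⟩, hat⟩ := a
        exact h ⟨t, t.2, congrArg Subtype.val hat⟩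
      rw [h0, Nat.cast_zero, mul_zero]
  have hcnt := delta_count (p := p) hmax.1.1.1 (actHom P c).range hE (fun χ : B => (deg χ : ℤ))
    (fun χ => by exact_mod_cast hdeg0' χ) dl dh g f hf hfg hg hdl hdlh hint
    (fun χ a ha v hv => by
      obtain ⟨t, rfl⟩ := ha
      exact hstab χ t t.2 v _ hv rfl)
    horth'
    (fun v hv => by
      rw [← hdeg0 v hv]
      exact Finset.sum_congr rfl fun χ _ => by rw [hdeg χ, Int.cast_natCast])
    hne (e := e) (l := l) (n := n) (card_range_actHom P c)
    (blockRank_pos hB) (by rw [← Nat.card_eq_fintype_card]; omega) hen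
  refine ⟨hcnt.1, hk, fun he3 => ?_⟩
  rcases hcnt.2 he3 with heq | ⟨hn3, hne1⟩
  · exact heq
  obtain ⟨a, ha⟩ := IsPGroup.iff_card.mp hmax.1.1.1
  have hp := (Fact.out : p.Prime)
  have hcase : Nat.card P = 7 ∨ Nat.card P = 10 ∨ Nat.card P = 13 := by
    rcases (by omega : e = 2 ∨ e = 3) with h | h <;> rcases (by omega : n = 3 ∨ n = 4) with h' | h' <;>
      rw [h, h'] at hen <;> rw [h, h'] at hne1 <;> omega
  have hprime : (Nat.card P).Prime := by
    rcases hcase with h | h | h
    · rw [h]; norm_num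
    · exfalso
      have h2 : 2 ∣ p ^ a := by rw [← ha, h]; norm_num
      have h5 : 5 ∣ p ^ a := by rw [← ha, h]; norm_num
      have := (Nat.prime_dvd_prime_iff_eq Nat.prime_two hp).mp (Nat.prime_two.dvd_of_dvd_pow h2)
      have := (Nat.prime_dvd_prime_iff_eq Nat.prime_five hp).mp (Nat.prime_five.dvd_of_dvd_pow h5)
      omega
    · rw [h]; norm_num
  haveI := Fact.mk hprime
  have hcyc : IsCyclic P := isCyclic_of_prime_card rfl
  have X : CyclicDefect.CycData p M B P c := ⟨hM, hmax, hcyc, hP1⟩
  obtain ⟨R, f', δ, ε, hTree⟩ := X.exists_tree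
  exact hTree.rank

end Cfsg.Agent.BlkChar.FreeAbelian.Counts
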