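import Cfsg.Agent.BlkChar.FreeAbelian.Transfer
import Cfsg.Agent.BC85.Star.Section
import Cfsg.Agent.Lib.CharClifford.Galois

/-!
# The coefficient of a column in a block with one Brauer character
-/

set_option autoImplicit false
set_option linter.unusedSectionVars false
set_option linter.style.haveILetI false

namespace Cfsg.Agent.BlkChar.FreeAbelian

open BlocksCore BC85 BC85.Star CharCore
open BlocksDefect hiding red Res charP_res red_mul red_sum red_eq_zero red_natCast red_of_mem
open scoped Classical ComplexConjugate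

attribute [local instance] Fintype.ofFinite

universe u

variable {M : Ideal AlgInt} [hP : M.IsPrime] {p : ℕ} [Fact p.Prime]
variable {H : Type u} [Group H] [Fintype H] {K : Type u} [Group K] [Fintype K]

/-- The coefficient at `f` of the restriction of a translated character. -/
noncomputable def dOf (φ : K →* H) (v0 : K) (f : Set (IrrCharacter K)) (η : IrrCharacter H) : ℂ :=
  ∑ θ ∈ Finset.univ.filter (· ∈ f),
    classInner (fun k => (η : H → ℂ) (φ k)) (θ : K → ℂ) * cval θ v0

theorem sum_coefC_eq_mul (φ : K →* H) {v0 : K} (hv0 : v0 ∈ Subgroup.center K)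
    (η : IrrCharacter H) (F : OG M K) {f : Set (IrrCharacter K)} {m : ℕ}
    (hin : ∀ θ ∈ f, ntr F θ = m) (hout : ∀ θ, θ ∉ f → ntr F θ = 0) :
    ∑ k, coefC F k * (η : H → ℂ) (φ (v0 * k)) = (m : ℂ) * dOf φ v0 f η := by
  rw [sum_eq_expand η φ hv0 F, dOf, Finset.mul_sum, Finset.sum_filter]
  refine Finset.sum_congr rfl fun θ _ => ?_
  by_cases hθ : θ ∈ f
  · rw [if_pos hθ, hin θ hθ]; ring
  · rw [if_neg hθ, hout θ hθ, mul_zero]

theorem isIntegral_dOf (φ : K →* H) {v0 : K} (hv0 : v0 ∈ Subgroup.center K)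
    (f : Set (IrrCharacter K)) (η : IrrCharacter H) : IsIntegral ℤ (dOf φ v0 f η) := by
  refine IsIntegral.sum _ fun θ _ => IsIntegral.mul ?_ ?_
  · obtain ⟨z, hz⟩ := IsGeneralizedCharacter.exists_classInner_irr_eq_intCast
      (isGeneralized_comp (irr_isGeneralized η) φ) θ
    rw [show classInner (fun k => (η : H → ℂ) (φ k)) (θ : K → ℂ) = (z : ℂ) from hz]
    simpa using isIntegral_algebraMap (R := ℤ) (A := ℂ) (x := z)
  · refine IsIntegral.of_pow (orderOf_pos v0) ?_
    rw [← cval_pow θ hv0, pow_orderOf_eq_one, cval_one]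
    exact isIntegral_one

/-- The projection at the pair is the coefficient times the Brauer character. -/
theorem proj_eq_dOf (φ : K →* H) (hφ : Function.Injective φ) {v0 : K}
    (hv0 : v0 ∈ Subgroup.center K) {f : Set (IrrCharacter K)} {a : BrauerPairIdx H}
    (hon : ∀ k : K, bp a (φ k) = blockCoeff f k) (hoff : ∀ h : H, h ∉ φ.range → bp a h = 0)
    {θ₀ : IrrCharacter K}
    (hreg : ∀ θ ∈ f, ∀ s : K, ¬ p ∣ orderOf s → (θ : K → ℂ) s = (θ₀ : K → ℂ) s)
    (η : IrrCharacter H) {s : K} (hs : ¬ p ∣ orderOf s) :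
    proj a (φ v0) (η : H → ℂ) (φ s) = dOf φ v0 f η * (θ₀ : K → ℂ) s := by
  set g : K → ℂ := fun k => (η : H → ℂ) (φ (v0 * k)) with hg
  have hgc : IsClassFunction K g := isClassFunction_section η φ hv0
  have hcl : IsClassFunction K fun k => (η : H → ℂ) (φ k) := fun k t => by
    simp only [map_mul φ, map_inv]
    exact irr_class η _ _
  have hsum : proj a (φ v0) (η : H → ℂ) (φ s) = blockPart f g s := by
    rw [blockPart_eq_sum_blockCoeff f hgc, proj]
    symm
    rw [← Finset.sum_filter_add_sum_filter_not (Finset.univ : Finset H) (fun h => h ∈ φ.range),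
      Finset.sum_eq_zero (s := Finset.univ.filter fun h : H => ¬ h ∈ φ.range) (fun h hh => by
        rw [hoff h (Finset.mem_filter.mp hh).2, zero_mul]), add_zero]
    refine Finset.sum_bij (fun k _ => φ k)
      (fun k _ => Finset.mem_filter.mpr ⟨Finset.mem_univ _, k, rfl⟩)
      (fun _ _ _ _ h => hφ h) (fun h hh => ?_) fun k _ => ?_
    · obtain ⟨k, rfl⟩ := (Finset.mem_filter.mp hh).2
      exact ⟨k, Finset.mem_univ _, rfl⟩
    · simp only [hg, hon, map_mul, mul_assoc]
  have hcoef : ∀ θ : IrrCharacter K, classInner g (θ : K → ℂ) =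
      classInner (fun k => (η : H → ℂ) (φ k)) (θ : K → ℂ) * cval θ v0 := by
    intro θ
    have e : g = ∑ ψ : IrrCharacter K,
        (classInner (fun k => (η : H → ℂ) (φ k)) (ψ : K → ℂ) * cval ψ v0) • (ψ : K → ℂ) := by
      funext k
      have h := congrFun (eq_sum_classInner hcl) (v0 * k)
      simp only [Finset.sum_apply, Pi.smul_apply, smul_eq_mul] at h ⊢
      rw [show g k = (η : H → ℂ) (φ (v0 * k)) from rfl, h]
      refine Finset.sum_congr rfl fun ψ _ => ?_
      rw [← Subgroup.mem_center_iff.mp hv0 k, apply_mul_of_center ψ hv0, mul_assoc]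
    rw [e, classInner_sum_irr, if_pos (Finset.mem_univ θ)]
  rw [hsum, BlockSections.blockPart_eq_sum, dOf, Finset.sum_mul]
  refine Finset.sum_congr rfl fun θ hθ => ?_
  rw [hcoef, hreg θ (Finset.mem_filter.mp hθ).2 s hs]

/-- A character vanishing at the identity vanishes. -/
theorem isCharacter_eq_zero {A : Type u} [Group A] {f : A → ℂ} (hf : IsCharacter A f)
    (h1 : f 1 = 0) (x : A) : f x = 0 := by
  obtain ⟨n, ρ, rfl⟩ := hf
  have hn : n = 0 := by
    rw [Representation.char_one] at h1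
    simpa using h1
  subst hn
  simp [Representation.character, Subsingleton.elim (ρ x) 0]

/-- The images of a generalized character value under a field automorphism. -/
theorem exists_galois_pow {A : Type u} [Group A] [Finite A] (σ : ℂ →+* ℂ) :
    ∃ j : ℕ, j.Coprime (Nat.card A) ∧
      ∀ h : A → ℂ, IsGeneralizedCharacter A h → ∀ x, σ (h x) = h (x ^ j) := by
  obtain ⟨j, hj, hσ⟩ := CharClifford.exists_pow_of_ringHom σ (Nat.card_pos (α := A)).ne'
  refine ⟨j, hj, fun h hh x => ?_⟩
  obtain ⟨a, b, ⟨n, ρ, rfl⟩, ⟨k, τ, rfl⟩, hab⟩ := hh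
  rw [hab]
  simp only [Pi.sub_apply, map_sub]
  rw [CharClifford.map_character ρ σ x Nat.card_pos.ne' pow_card_eq_one' hσ,
    CharClifford.map_character τ σ x Nat.card_pos.ne' pow_card_eq_one' hσ]

/-- Positive families with integral products and mean one are constant. -/
theorem eq_one_of_mean {ι A : Type*} [Fintype ι] [Fintype A] (r : ι → A → ℝ)
    (hpos : ∀ i a, 0 < r i a) (hint : ∀ i, IsIntegral ℤ (∏ a, (r i a : ℂ)))
    (hfix : ∀ i, ∀ σ : ℂ →+* ℂ, σ (∏ a, (r i a : ℂ)) = ∏ a, (r i a : ℂ))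
    (hsum : ∑ i, ∑ a, r i a = (Fintype.card ι : ℝ) * Fintype.card A) (i : ι) (a : A) :
    r i a = 1 := by
  have hk1 : ∀ i, (1 : ℝ) ≤ ∏ a, r i a := fun i => by
    obtain ⟨k, hk⟩ := CharClifford.exists_int_of_fixed (hint i) (hfix i)
    rw [← Complex.ofReal_prod, ← Complex.ofReal_intCast, Complex.ofReal_inj] at hk
    rw [hk]
    have h0 : (0 : ℝ) < (k : ℝ) := by rw [← hk]; exact Finset.prod_pos fun x _ => hpos i x
    exact_mod_cast (Int.cast_pos.mp h0 : 0 < k)
  by_contra hne
  have h1 : ∑ i, ∑ a, Real.log (r i a) < ∑ i, ∑ a, (r i a - 1) :=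
    Finset.sum_lt_sum (fun i _ => Finset.sum_le_sum fun a _ =>
      Real.log_le_sub_one_of_pos (hpos i a))
      ⟨i, Finset.mem_univ _, Finset.sum_lt_sum
        (fun a _ => Real.log_le_sub_one_of_pos (hpos i a))
        ⟨a, Finset.mem_univ _, Real.log_lt_sub_one_of_pos (hpos i a) hne⟩⟩
  have h2 : ∀ i, 0 ≤ ∑ a, Real.log (r i a) := fun i => by
    rw [← Real.log_prod (fun a _ => (hpos i a).ne')]
    exact Real.log_nonneg (hk1 i)
  have h3 : ∑ i, ∑ a, (r i a - 1) = (0 : ℝ) := by
    simp only [Finset.sum_sub_distrib, Finset.sum_const, Finset.card_univ, nsmul_eq_mul, mul_one,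
      hsum, sub_self]
  rw [h3] at h1
  exact absurd h1 (not_lt.mpr (Finset.sum_nonneg fun i _ => h2 i))

end Cfsg.Agent.BlkChar.FreeAbelian
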