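import Cfsg.Agent.BlkChar.FreeAbelian.Signs

/-!
# Rational columns of a block with abelian defect group and free inertial action

At every nontrivial element of the defect group the traces of a point, divided by the signed
numbers, give a column of norm `|P|` supported on the block; columns of elements which are not
conjugate under the stabilizer of the pair are orthogonal.
-/

set_option autoImplicit false
set_option linter.unusedSectionVars false
set_option linter.style.haveILetI false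

namespace Cfsg.Agent.BlkChar.FreeAbelian

open BlocksCore BC85 BC85.Star CharCore
open BlocksDefect hiding red Res charP_res red_mul red_sum red_eq_zero red_natCast red_of_mem
open scoped Classical ComplexConjugate

universe u

variable {G : Type u} [Group G] [Fintype G] {p : ℕ} [Fact p.Prime] {M : Ideal AlgInt}
  [hP : M.IsPrime]

local notation "C[" Q "]" => Subgroup.centralizer (Q : Set G)
local notation "𝕜" => BC85.Star.Res M

/-- The trace of the point on a character. -/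
noncomputable def dVal (ε : KG M G) (χ : IrrCharacter G) (v : G) : ℂ :=
  val χ.2.choose_spec.choose v ε

variable {B : Set (IrrCharacter G)} {P : Subgroup G}
  {c : Set (IrrCharacter (Subgroup.centralizer (P : Set G)))}
  (hM : IsPModular p M) (hmax : IsMaximalBrauerPair p M B P c)
  (hab : ∀ x ∈ P, ∀ y ∈ P, x * y = y * x)
  (hfree : ∀ g : G, g ∈ stabT P c → ∀ x : G, x ∈ P → x ≠ 1 → g * x * g⁻¹ = x →
    g ∈ Subgroup.centralizer ((P : Subgroup G) : Set G))
  {ε : KG M G} (hε : IsPoint P c ε) (hP1 : P ≠ ⊥)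

include hM hmax hab hfree hε

theorem dVal_isCharacter (χ : IrrCharacter G) : IsCharacter P (fun v : P => dVal ε χ (v : G)) :=
  isCharacter_val _ hM hε.prim.idem hε.prim.fixd

/-- The value at a nontrivial element through a fixed idempotent with image in a block of the
centralizer. -/
theorem val_at {u : G} (hu : u ∈ P) {e : KG M G} (he : IsIdempotentElem e) (hf : Fixd {u} e)
    {F : OG M C[(Subgroup.zpowers u : Subgroup G)]} (hF : IsIdempotentElem F)
    (hred : incl 𝕜 C[(Subgroup.zpowers u : Subgroup G)] (red M _ F) = br (Subgroup.zpowers u) e) :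
    ∃ v0 : C[(Subgroup.zpowers u : Subgroup G)], (v0 : G) = u ∧ v0 ∈ Subgroup.center _ ∧
      (∃ n : ℕ, orderOf (Subgroup.subtype _ v0) = p ^ n) ∧
      (∀ h : G, h ∈ Subgroup.centralizer ({Subgroup.subtype _ v0} : Set G) →
        h ∈ (Subgroup.subtype C[(Subgroup.zpowers u : Subgroup G)]).range) ∧
      ∀ (χ : IrrCharacter G),
        val χ.2.choose_spec.choose u e =
          ∑ k, coefC F k * (χ : G → ℂ) (Subgroup.subtype _ (v0 * k)) := by
  have huC : u ∈ C[(Subgroup.zpowers u : Subgroup G)] := by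
    rw [centralizer_zpowers]
    exact Subgroup.mem_centralizer_singleton_iff.mpr rfl
  set v0 : C[(Subgroup.zpowers u : Subgroup G)] := ⟨u, huC⟩ with hv0
  have hc : v0 ∈ Subgroup.center _ := Subgroup.mem_center_iff.mpr fun y =>
    Subtype.ext (Subgroup.mem_centralizer_iff.mp y.2 u (Subgroup.mem_zpowers _)).symm
  have hord : ∃ n : ℕ, orderOf (Subgroup.subtype _ v0) = p ^ n :=
    orderOf_pow_of_mem hmax.1.1.1 hu
  refine ⟨v0, rfl, hc, hord, fun h hh => ⟨⟨h, by rw [centralizer_zpowers]; exact hh⟩, rfl⟩,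
    fun χ => ?_⟩
  have h := val_eq_sum hM χ.2.choose_spec.choose (Subgroup.subtype _) hc hord he hf hF hred
  rw [χ.2.choose_spec.choose_spec.2] at h
  exact h

include hP1

/-- The value at a nontrivial element. -/
theorem dVal_data {u : G} (hu : u ∈ P) (hu1 : u ≠ 1) :
    ∃ d : IrrCharacter G → ℂ,
      (∀ χ, dVal ε χ u = (mOf p P c ε (Subgroup.zpowers u) : ℂ) * d χ) ∧
      (∀ χ, IsIntegral ℤ (d χ)) ∧ (∀ χ, χ ∉ B → d χ = 0) ∧
      ((u ∈ Subgroup.centralizer (P : Set G)) → ∀ χ ∈ B, d χ ≠ 0) ∧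
      (∑ χ : IrrCharacter G, dVal ε χ u * conj (dVal ε χ u) =
        (Nat.card P : ℂ) * (mOf p P c ε (Subgroup.zpowers u) : ℂ) ^ 2) ∧
      ∑ χ : IrrCharacter G, (χ : G → ℂ) 1 * dVal ε χ u = 0 := by
  have hR : Subgroup.zpowers u ≤ P := Subgroup.zpowers_le.mpr hu
  have hR1 : Subgroup.zpowers u ≠ ⊥ := Subgroup.zpowers_ne_bot.mpr hu1
  obtain ⟨f, F, hd⟩ := exists_isDatum hM hmax hab hfree hε hR hR1
  have hpair := subpairLE_isBrauerPair hd.below hmax.1.1
  obtain ⟨-, -, hcard, hreg⟩ := local_block hM hmax hab hfree hR hR1 hd.below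
  obtain ⟨v0, hv0, hc, hord, hrange, hval⟩ := val_at hM hmax hab hfree hε hu hε.prim.idem
    (hε.prim.fixd.mono (Set.singleton_subset_iff.mpr hu)) hd.idem hd.incl_red
  set φ := Subgroup.subtype C[(Subgroup.zpowers u : Subgroup G)] with hφ
  have hφi : Function.Injective φ := Subgroup.subtype_injective _
  have hφv : φ v0 = u := hv0
  have ha : (⟨Subgroup.zpowers u, f⟩ : BrauerPairIdx G) ∈ pairsAt M (Subgroup.zpowers u) :=
    mk_mem_pairsAt hpair.2
  obtain ⟨θ, hθ⟩ := isPBlock_nonempty hpair.2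
  have hproj : ∀ (χ : IrrCharacter G) (s : C[(Subgroup.zpowers u : Subgroup G)]), ¬ p ∣ orderOf s →
      proj (⟨Subgroup.zpowers u, f⟩ : BrauerPairIdx G) u (χ : G → ℂ) (φ s) =
        dOf φ v0 f χ * (θ : _ → ℂ) s := by
    intro χ s hs
    have h := proj_eq_dOf φ hφi hc (a := (⟨Subgroup.zpowers u, f⟩ : BrauerPairIdx G))
      (fun k => bp_apply_coe _ f k) (fun h hh => bp_of_notMem _ f fun h' => hh ⟨⟨h, h'⟩, rfl⟩)
      (fun θ' h' => hreg θ' h' θ hθ) χ hs
    rwa [hφv] at h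
  have hord' : ∃ n : ℕ, orderOf u = p ^ n := orderOf_pow_of_mem hmax.1.1.1 hu
  refine ⟨dOf φ v0 f, fun χ => ?_, isIntegral_dOf φ hc f, fun χ hχ => ?_, fun huC χ hχ => ?_,
    ?_, ?_⟩
  · rw [dVal, hval, sum_coefC_eq_mul φ hc χ F hd.on hd.off]
  · have h1 : ¬ p ∣ orderOf (1 : C[(Subgroup.zpowers u : Subgroup G)]) := by
      rw [orderOf_one]; exact (Fact.out : p.Prime).not_dvd_one
    have hp := hproj χ 1 h1
    have hBu : IsBrauerPairOf p M B (Subgroup.zpowers u) f :=
      (subpairLE_pairOf_iff hM hd.below B).mp hmax.1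
    have hnot : ¬ IsBrauerPairOf p M (blockOf M (χ : G → ℂ)) (Subgroup.zpowers u) f := fun h =>
      hχ (by
        rw [(existsUnique_block_of_pair hM hpair).unique hBu h]
        exact mem_blockOf_self χ)
    rw [map_one] at hp
    have h0 := proj_eq_zero_of_not_pairOf hM (isPBlock_blockOf χ) (mem_blockOf_self χ) hord' ha
      hnot (s := 1) (by rw [orderOf_one]; exact (Fact.out : p.Prime).not_dvd_one)
    rw [OneMemClass.coe_one] at h0
    rw [h0] at hp
    exact (mul_eq_zero.mp hp.symm).resolve_right (irr_one_ne_zero θ)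
  · obtain ⟨s, hs, hsreg, hne⟩ :=
      exists_proj_ne_zero_of_central hM hmax hχ ⟨u, hu⟩ huC hd.below
    obtain ⟨s', rfl⟩ := hrange s (by rwa [hφv])
    intro h0
    rw [hproj χ s' (by rwa [orderOf_injective φ hφi] at hsreg), h0, zero_mul] at hne
    exact hne rfl
  · simp only [dVal, hval]
    rw [col_same hM φ hφi hc hord hrange hd.idem hd.idem,
      ← Finset.sum_subset (Finset.subset_univ (Finset.univ.filter (· ∈ f))) (fun θ _ hθ => by
        rw [hd.off θ (by simpa using hθ), zero_mul]),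
      Finset.sum_congr rfl (g := fun _ => (mOf p P c ε (Subgroup.zpowers u) : ℂ) *
        (mOf p P c ε (Subgroup.zpowers u) : ℂ)) fun θ hθ => by
          rw [hd.on θ (Finset.mem_filter.mp hθ).2, map_natCast],
      Finset.sum_const, nsmul_eq_mul, pow_two]
    congr 2
    rw [← hcard, Nat.card_eq_fintype_card, Fintype.card_subtype]
  · simp only [dVal, hval]
    exact col_one hM φ hφi hc hord (by rw [hφv]; exact hu1) hd.idem

/-- Columns of elements which are not fused are orthogonal. -/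
theorem dVal_orth {u v : G} (hu : u ∈ P) (hu1 : u ≠ 1) (hv : v ∈ P) (hv1 : v ≠ 1)
    (hne : ¬ ∃ t ∈ stabT P c, t * u * t⁻¹ = v) :
    ∑ χ : IrrCharacter G, dVal ε χ u * conj (dVal ε χ v) = 0 := by
  have := charP_res (M := M) hM
  have hPp := hmax.1.1.1
  have hRu : Subgroup.zpowers u ≤ P := Subgroup.zpowers_le.mpr hu
  have hRv : Subgroup.zpowers v ≤ P := Subgroup.zpowers_le.mpr hv
  obtain ⟨fu, Fu, hdu⟩ := exists_isDatum hM hmax hab hfree hε hRu (Subgroup.zpowers_ne_bot.mpr hu1)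
  obtain ⟨fv, Fv, hdv⟩ := exists_isDatum hM hmax hab hfree hε hRv (Subgroup.zpowers_ne_bot.mpr hv1)
  obtain ⟨u0, hu0, huc, hordu, hrangeu, hvalu⟩ := val_at hM hmax hab hfree hε hu hε.prim.idem
    (hε.prim.fixd.mono (Set.singleton_subset_iff.mpr hu)) hdu.idem hdu.incl_red
  by_cases hconj : ∃ h : G, h * u * h⁻¹ = v
  swap
  · obtain ⟨v0, hv0, hvc, hordv, -, hvalv⟩ := val_at hM hmax hab hfree hε hv hε.prim.idem
      (hε.prim.fixd.mono (Set.singleton_subset_iff.mpr hv)) hdv.idem hdv.incl_red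
    simp only [dVal, hvalu, hvalv]
    refine col_ne hM _ (Subgroup.subtype_injective _) _ (Subgroup.subtype_injective _) huc hvc
      hordu hordv (fun t ht => hconj ⟨t, ?_⟩) hdu.idem hdv.idem
    simpa [hu0, hv0] using ht
  obtain ⟨h, hh⟩ := hconj
  set e' := cj h⁻¹ ε with he'def
  have he' : IsIdempotentElem e' := by
    show _ * _ = _
    rw [he'def, ← cj_mul, hε.prim.idem.eq]
  have hmapv : (Subgroup.zpowers v).map (MulAut.conj h⁻¹).toMonoidHom = Subgroup.zpowers u := by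
    rw [BC85.Star.map_conj_zpowers, inv_inv, show h⁻¹ * v * h = u by rw [← hh]; group]
  have hbr' : br (Subgroup.zpowers u) e' = cj h⁻¹ (br (Subgroup.zpowers v) ε) := by
    rw [cj_br_map, hmapv]
  have hfix' : Fixd (Subgroup.zpowers u : Set G) e' := fixd_zpowers.mpr (by
    intro x hx
    rw [Set.mem_singleton_iff.mp hx, he'def, cj_cj, show u * h⁻¹ = h⁻¹ * v by rw [← hh]; group, ← cj_cj, hε.prim.fixd v hv])
  have hpairv := subpairLE_isBrauerPair hdv.below hmax.1.1
  obtain ⟨f', hf', hf'eq⟩ : ∃ f' : Set (IrrCharacter C[(Subgroup.zpowers u : Subgroup G)]),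
      IsPBlock M f' ∧ conjPair h⁻¹ (⟨Subgroup.zpowers v, fv⟩ : BrauerPairIdx G) =
        ⟨Subgroup.zpowers u, f'⟩ := by
    have hb := (isBrauerPair_conj hM (a := (⟨Subgroup.zpowers v, fv⟩ : BrauerPairIdx G)) hpairv
      h⁻¹).2
    have h1 : (conjPair h⁻¹ (⟨Subgroup.zpowers v, fv⟩ : BrauerPairIdx G)).1 =
        Subgroup.zpowers u := hmapv
    revert hb h1
    generalize conjPair h⁻¹ (⟨Subgroup.zpowers v, fv⟩ : BrauerPairIdx G) = a
    obtain ⟨R, f⟩ := a
    intro hb h1
    dsimp only at h1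
    subst h1
    exact ⟨f, hb, rfl⟩
  have hblk' : br (Subgroup.zpowers u) e' * bk M (⟨Subgroup.zpowers u, f'⟩ : BrauerPairIdx G) =
      br (Subgroup.zpowers u) e' := by
    rw [hbr', ← hf'eq, ← cj_bk, ← cj_mul, hε.below hM hmax hdv.below]
  obtain ⟨F', hF', hF'r, -, hF'off⟩ :=
    exists_datum hM (hPp.to_le hRu) he' hfix' hf' hblk'
  obtain ⟨w0, hw0, -, -, -, hvalw⟩ := val_at hM hmax hab hfree hε hu he'
    (fixd_zpowers.mp hfix') hF' hF'r
  obtain rfl : w0 = u0 := Subtype.ext (hw0.trans hu0.symm)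
  have hdv' : ∀ χ : IrrCharacter G, dVal ε χ v = ∑ k, coefC F' k *
      (χ : G → ℂ) (Subgroup.subtype _ (w0 * k)) := fun χ => by
    rw [← hvalw χ, dVal, ← hh]
    have := val_cj χ.2.choose_spec.choose h u e'
    rwa [he'def, cj_cj, mul_inv_cancel, cj_one] at this
  simp only [hdv']
  simp only [dVal, hvalu]
  rw [col_same hM _ (Subgroup.subtype_injective _) huc hordu hrangeu hdu.idem hF']
  refine Finset.sum_eq_zero fun θ _ => ?_
  by_cases hθ : θ ∈ fu
  · have hθ' : θ ∉ f' := fun hθ' => by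
      have heq : f' = fu :=
        isPBlock_eq_of_mem hf' (subpairLE_isBrauerPair hdu.below hmax.1.1).2 hθ' hθ
      subst heq
      have hgh : conjPair h (⟨Subgroup.zpowers u, f'⟩ : BrauerPairIdx G) =
          ⟨Subgroup.zpowers v, fv⟩ := by
        rw [← hf'eq, conjPair_conjPair, mul_inv_cancel, conjPair_one]
      obtain ⟨y, hy, hyq⟩ := AbelianSubsection.exists_stab_of_below hM hmax hab hdu.below (x := h)
        (by
          show Relation.ReflTransGen (NormalSubpairRel p M) (conjPair h ⟨_, f'⟩) _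
          rw [hgh]
          exact hdv.below)
      exact hne ⟨y, hy, (hyq u (Subgroup.mem_zpowers _)).trans hh⟩
    rw [hF'off θ hθ', map_zero, mul_zero]
  · rw [hdu.off θ hθ, zero_mul]

omit hε in
/-- The rational columns. -/
theorem exists_deltas [Fintype B] :
    ∃ (dl dh : B → P → ℂ) (g : P → ℤ) (f : P → ℂ), IsGeneralizedCharacter P f ∧
      (∀ v, v ≠ 1 → f v = g v) ∧ (∀ v, v ≠ 1 → ¬ (p : ℤ) ∣ g v) ∧
      (∀ χ, IsGeneralizedCharacter P (dl χ)) ∧ (∀ χ v, v ≠ 1 → dl χ v = g v * dh χ v) ∧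
      (∀ χ v, v ≠ 1 → IsIntegral ℤ (dh χ v)) ∧
      (∀ χ, ∀ t ∈ stabT P c, ∀ u v : P, u ≠ 1 → t * (u : G) * t⁻¹ = v → dh χ v = dh χ u) ∧
      (∀ u v : P, u ≠ 1 → v ≠ 1 → ∑ χ : B, dh χ u * conj (dh χ v) =
        if ∃ t ∈ stabT P c, t * (u : G) * t⁻¹ = v then (Nat.card P : ℂ) else 0) ∧
      (∀ v : P, v ≠ 1 → ∑ χ : B, ((χ : IrrCharacter G) : G → ℂ) 1 * dh χ v = 0) ∧
      ∀ χ : B, ∃ v : P, v ≠ 1 ∧ dh χ v ≠ 0 := by
  obtain ⟨ε, hε⟩ := exists_point hM hmax.1.1
  obtain ⟨f, hf, hfg⟩ := exists_glue_point hM hmax hab hfree hε hP1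
  set g : P → ℤ := fun v => gFun p P c ε (Subgroup.zpowers (v : G)) with hg
  have hne1 : ∀ v : P, v ≠ 1 → (v : G) ≠ 1 := fun v h h' => h (Subtype.ext h')
  have hgnd : ∀ v : P, v ≠ 1 → ¬ (p : ℤ) ∣ g v := fun v hv =>
    (gFun_spec hM hmax hab hfree hε hP1 (Subgroup.zpowers_le.mpr v.2)
      (Subgroup.zpowers_ne_bot.mpr (hne1 v hv))).2
  have hg0 : ∀ v : P, v ≠ 1 → (g v : ℂ) ≠ 0 := fun v hv =>
    Int.cast_ne_zero.mpr fun h => hgnd v hv (h ▸ dvd_zero _)
  choose d hd hint hoff hnz hnorm hdeg using fun (v : P) (hv : v ≠ 1) =>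
    dVal_data hM hmax hab hfree hε hP1 v.2 (hne1 v hv)
  set dl : B → P → ℂ := fun χ v => dVal ε (χ : IrrCharacter G) (v : G) with hdl
  set dh : B → P → ℂ := fun χ v => dl χ v / g v with hdh
  have hsumB : ∀ F : IrrCharacter G → ℂ, (∀ χ, χ ∉ B → F χ = 0) →
      ∑ χ : B, F χ = ∑ χ : IrrCharacter G, F χ := by
    intro F hF
    rw [← Finset.sum_subtype (Finset.univ.filter (· ∈ B)) (fun χ => by simp) F]
    exact Finset.sum_subset (Finset.subset_univ _) fun χ _ hχ => hF χ (by simpa using hχ)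
  have hzero : ∀ v : P, v ≠ 1 → ∀ χ, χ ∉ B → dVal ε χ (v : G) = 0 := fun v hv χ hχ => by
    rw [hd v hv, hoff v hv χ hχ, mul_zero]
  have hinner : ∀ u v : P, u ≠ 1 → v ≠ 1 → ∑ χ : B, dh χ u * conj (dh χ v) =
      (∑ χ : IrrCharacter G, dVal ε χ (u : G) * conj (dVal ε χ (v : G))) / (g u * g v) := by
    intro u v hu _
    rw [← hsumB (fun χ => dVal ε χ (u : G) * conj (dVal ε χ (v : G)))
      (fun χ hχ => by rw [hzero u hu χ hχ, zero_mul]), Finset.sum_div]
    refine Finset.sum_congr rfl fun χ _ => ?_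
    simp only [hdh, hdl, map_div₀, map_intCast, div_mul_div_comm]
  have hgm : ∀ v : P, (g v : ℂ) * g v = (mOf p P c ε (Subgroup.zpowers (v : G)) : ℂ) ^ 2 := by
    intro v
    rcases gFun_eq_or (p := p) P c ε (Subgroup.zpowers (v : G)) with e | e <;>
      · rw [hg]; simp only [e]; push_cast; ring
  have hval : ∀ (χ : IrrCharacter G) (t : G) (_ : t ∈ stabT P c) (u v : P),
      t * (u : G) * t⁻¹ = v → dVal ε χ (v : G) = dVal ε χ (u : G) := fun χ t ht u v htu => by
    rw [← htu]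
    exact hε.val_conj hM hmax hab hfree hP1 ht u.2 _
  have hgconj : ∀ (t : G) (_ : t ∈ stabT P c) (u v : P), u ≠ 1 → t * (u : G) * t⁻¹ = v →
      v ≠ 1 ∧ g v = g u := by
    intro t ht u v hu htu
    have hv : v ≠ 1 := fun h => hne1 u hu (conj_eq_one_iff.mp (by rw [htu, h]; rfl))
    refine ⟨hv, ?_⟩
    have h1 := hnorm v hv
    simp only [fun χ => hval χ t ht u v htu] at h1
    rw [hnorm u hu] at h1
    have h2 := mul_left_cancel₀ (Nat.cast_ne_zero.mpr Nat.card_pos.ne' : (Nat.card P : ℂ) ≠ 0) h1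
    have h3 : mOf p P c ε (Subgroup.zpowers (u : G)) = mOf p P c ε (Subgroup.zpowers (v : G)) :=
      Nat.pow_left_injective two_ne_zero (by exact_mod_cast h2)
    simp only [hg, gFun, h3]
  refine ⟨dl, dh, g, f, hf, hfg, hgnd, fun χ =>
      CharCore.IsCharacter.isGeneralized (dVal_isCharacter hM hmax hab hfree hε (χ : IrrCharacter G)),
    fun χ v hv => ?_, fun χ v hv => ?_, fun χ t ht u v hu htu => ?_, fun u v hu hv => ?_,
    fun v hv => ?_, fun χ => ?_⟩
  · simp only [hdh]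
    rw [mul_div_cancel₀ _ (hg0 v hv)]
  · simp only [hdh, hdl]
    rw [hd v hv]
    rcases gFun_eq_or (p := p) P c ε (Subgroup.zpowers (v : G)) with e | e
    · have e' : (g v : ℂ) = (mOf p P c ε (Subgroup.zpowers (v : G)) : ℂ) := by
        simp only [hg, e]; push_cast; rfl
      rw [← e', mul_div_cancel_left₀ _ (hg0 v hv)]
      exact hint v hv _
    · have e' : (mOf p P c ε (Subgroup.zpowers (v : G)) : ℂ) = -(g v : ℂ) := by
        simp only [hg, e]; push_cast; ring
      rw [e', neg_mul, neg_div, mul_div_cancel_left₀ _ (hg0 v hv)]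
      exact (hint v hv _).neg
  · simp only [hdh, hdl, hval _ t ht u v htu, (hgconj t ht u v hu htu).2]
  · rw [hinner u v hu hv]
    split_ifs with hT
    · obtain ⟨t, ht, htu⟩ := hT
      simp only [fun χ => hval χ t ht u v htu, (hgconj t ht u v hu htu).2]
      rw [hnorm u hu, ← hgm, mul_div_assoc, div_self (mul_ne_zero (hg0 u hu) (hg0 u hu)), mul_one]
    · rw [dVal_orth hM hmax hab hfree hε hP1 u.2 (hne1 u hu) v.2 (hne1 v hv) hT, zero_div]
  · simp only [hdh, hdl, ← mul_div_assoc, ← Finset.sum_div]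
    rw [hsumB (fun χ => (χ : G → ℂ) 1 * dVal ε χ (v : G))
      (fun χ hχ => by rw [hzero v hv χ hχ, mul_zero]), hdeg v hv, zero_div]
  · obtain ⟨x, hx, hx1⟩ := P.bot_or_exists_ne_one.resolve_left hP1
    have hv : (⟨x, hx⟩ : P) ≠ 1 := fun h => hx1 (congrArg Subtype.val h)
    refine ⟨⟨x, hx⟩, hv, ?_⟩
    simp only [hdh, hdl]
    rw [hd _ hv]
    refine div_ne_zero (mul_ne_zero ?_ (hnz _ hv
      (Subgroup.mem_centralizer_iff.mpr fun q hq => hab q hq x hx) _ χ.2)) (hg0 _ hv)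
    exact Nat.cast_ne_zero.mpr fun h => not_dvd_mOf hM hmax hab hfree hε hP1 _
      (Subgroup.zpowers_le.mpr hx) (Subgroup.zpowers_ne_bot.mpr hx1) (h ▸ dvd_zero p)

end Cfsg.Agent.BlkChar.FreeAbelian
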