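import Cfsg.Agent.BC85.Star.Main
import Cfsg.Agent.Lib.BlocksDefect.Central
import Cfsg.Agent.Lib.BlocksCore.WeakOrth
import Cfsg.Agent.Lib.CharCore.Complete
import Cfsg.Agent.Lib.CharCore.Virtual
import Cfsg.Agent.Lib.CharCore.BlockSections
import Cfsg.Agent.Lib.SmallGroups.SelfCent.Phi

/-!
# Traces at a `p`-element through the centralizer

The trace at `v` of an idempotent fixed by `v` is a combination of the values on the section of
`v` by the coefficients of a lift of its Brauer image, which lives in the centralizer.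
-/

set_option autoImplicit false
set_option linter.unusedSectionVars false
set_option linter.style.haveILetI false

namespace Cfsg.Agent.BlkChar.FreeAbelian

open BlocksCore BlocksDefect BC85.Star
open scoped Classical ComplexConjugate

variable {M : Ideal AlgInt} [hP : M.IsPrime] {p : ℕ} [Fact p.Prime]

section One

variable {K : Type*} [Group K] [Fintype K]

/-- The coefficient as a complex number. -/
noncomputable def coefC (F : OG M K) (k : K) : ℂ := ((F.coeff k : localRing M) : ℂ)

/-- The trace of an idempotent on a character. -/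
noncomputable def ntr (F : OG M K) (θ : IrrCharacter K) : ℂ := ∑ k, coefC F k * (θ : K → ℂ) k

/-- The averaged coefficient. -/
noncomputable def avg (F : OG M K) (k : K) : ℂ :=
  (Nat.card K : ℂ)⁻¹ * ∑ t : K, coefC F (t * k * t⁻¹)

theorem avg_singular (hM : IsPModular p M) {F : OG M K} (hF : IsIdempotentElem F) {k : K}
    (hk : p ∣ orderOf k) : avg F k = 0 := by
  have hconv : conv (coefC F) (coefC F) = coefC F := by
    funext x
    rw [conv_apply]
    exact (coe_coeff_mul F F x).symm.trans (congrArg (fun a => coefC a x) hF.eq)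
  have h := sum_conj_idempotent_eq_zero hM (f := coefC F) (fun g => (F.coeff g).2) hconv hk
  rw [avg, show ∑ t : K, coefC F (t * k * t⁻¹) = ∑ t : K, coefC F (t⁻¹ * k * t) from
    Fintype.sum_equiv (Equiv.inv K) _ _ fun t => by simp, h, mul_zero]

theorem sum_coefC_eq_avg (F : OG M K) {g : K → ℂ} (hg : IsClassFunction K g) :
    ∑ k, coefC F k * g k = ∑ k, avg F k * g k := by
  have h : ∀ t : K, ∑ k, coefC F (t * k * t⁻¹) * g k = ∑ k, coefC F k * g k := fun t =>
    Fintype.sum_equiv ((Equiv.mulLeft t).trans (Equiv.mulRight t⁻¹)) _ _ fun k => by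
      simp only [Equiv.trans_apply, Equiv.coe_mulLeft, Equiv.coe_mulRight, hg k t]
  have h2 : ∀ k, avg F k * g k = (Nat.card K : ℂ)⁻¹ * ∑ t : K, coefC F (t * k * t⁻¹) * g k :=
    fun k => by rw [avg, mul_assoc, Finset.sum_mul]
  rw [Finset.sum_congr rfl fun k _ => h2 k, ← Finset.mul_sum]
  rw [Finset.sum_comm, Finset.sum_congr rfl fun t _ => h t, Finset.sum_const, Finset.card_univ,
    nsmul_eq_mul, ← mul_assoc, Nat.card_eq_fintype_card,
    inv_mul_cancel₀ (Nat.cast_ne_zero.mpr Fintype.card_ne_zero), one_mul]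

theorem ntr_eq_avg (F : OG M K) (θ : IrrCharacter K) :
    ntr F θ = ∑ k, avg F k * (θ : K → ℂ) k :=
  sum_coefC_eq_avg F (irr_class θ)

theorem ntr_eq_of_regular (hM : IsPModular p M) {F : OG M K} (hF : IsIdempotentElem F)
    {θ θ' : IrrCharacter K}
    (h : ∀ k : K, ¬ p ∣ orderOf k → (θ : K → ℂ) k = (θ' : K → ℂ) k) : ntr F θ = ntr F θ' := by
  rw [ntr_eq_avg, ntr_eq_avg]
  refine Finset.sum_congr rfl fun k _ => ?_
  by_cases hk : p ∣ orderOf k
  · rw [avg_singular hM hF hk, zero_mul, zero_mul]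
  · rw [h k hk]

theorem tau_eq_sum {V : Type*} [AddCommGroup V] [Module ℂ V] (ρ : Representation ℂ K V)
    (F : OG M K) : tau ρ F = ∑ k, coefC F k * ρ.character k := by
  conv_lhs => rw [show F = ∑ k : K, F.coeff k • MonoidAlgebra.of (localRing M) K k from
    MonoidAlgebra.ext (Finsupp.ext fun g => by simp [Finsupp.single_apply])]
  rw [map_sum]
  exact Finset.sum_congr rfl fun k _ => by rw [tau_smul, tau_of]; rfl

theorem exists_ntr_nat {F : OG M K} (hF : IsIdempotentElem F) (θ : IrrCharacter K) :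
    ∃ n : ℕ, ntr F θ = n := by
  obtain ⟨f, d, ρ, hρ, rfl⟩ := θ
  refine ⟨Module.finrank ℂ (LinearMap.range
    (ρ.asAlgebraHom (MonoidAlgebra.mapRingHom K (localRing M).subtype F))), ?_⟩
  show ∑ k, coefC F k * ρ.character k = _
  rw [← tau_eq_sum, tau_apply, LinearMap.IsProj.trace
    (LinearMap.IsIdempotentElem.isProj_range _
      ((hF.map (MonoidAlgebra.mapRingHom K (localRing M).subtype)).map ρ.asAlgebraHom))]

end One

/-- The second orthogonality relation as a count. -/
theorem sum_irr_conj_eq_count {H : Type*} [Group H] [Fintype H] (a b : H) :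
    ∑ χ : IrrCharacter H, (χ : H → ℂ) a * conj ((χ : H → ℂ) b) =
      ((Finset.univ.filter fun t : H => t * a * t⁻¹ = b).card : ℂ) := by
  rw [CharCore.sum_apply_mul_conj]
  have h := SmallGroups.SelfCent.sum_isConj_mul_card a {b}
  rw [Finset.sum_singleton] at h
  have hS : (Finset.univ.filter fun t : H => t * a * t⁻¹ ∈ ({b} : Finset H)) =
      Finset.univ.filter fun t : H => t * a * t⁻¹ = b := by ext; simp
  rw [hS] at h
  rw [← h]
  split_ifs <;> simp

section Two

variable {H : Type*} [Group H] [Fintype H] {K : Type*} [Group K] [Fintype K]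

theorem red_mapDomain (φ : K →* H) (F : OG M K) :
    red M H (MonoidAlgebra.mapDomainRingHom (localRing M) φ F) =
      MonoidAlgebra.mapDomainRingHom (Res M) φ (red M K F) := by
  rw [show F = ∑ k : K, MonoidAlgebra.single k (F.coeff k) from
    MonoidAlgebra.ext (Finsupp.ext fun g => by simp [Finsupp.single_apply])]
  simp only [map_sum, MonoidAlgebra.mapDomainRingHom_apply, MonoidAlgebra.mapDomain_single,
    red_single]

theorem mapDomain_of (φ : K →* H) {R : Type*} [CommSemiring R] (k : K) :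
    MonoidAlgebra.mapDomainRingHom R φ (MonoidAlgebra.of R K k) = MonoidAlgebra.of R H (φ k) := by
  simp [MonoidAlgebra.of_apply]

/-- The values on the section of a central element along an embedding. -/
theorem isClassFunction_section (χ : IrrCharacter H) (φ : K →* H) {v0 : K}
    (hv0 : v0 ∈ Subgroup.center K) :
    IsClassFunction K fun k => (χ : H → ℂ) (φ (v0 * k)) := by
  intro k t
  show (χ : H → ℂ) (φ (v0 * (t * k * t⁻¹))) = _
  rw [show v0 * (t * k * t⁻¹) = t * (v0 * k) * t⁻¹ by
      rw [← mul_assoc t v0 k, Subgroup.mem_center_iff.mp hv0 t]; group,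
    map_mul φ, map_mul φ, map_inv]
  exact irr_class χ _ _

/-- The trace at `φ v0` through a lift of the Brauer image. -/
theorem val_eq_sum (hM : IsPModular p M) {V : Type*} [AddCommGroup V] [Module ℂ V]
    (ρ : Representation ℂ H V) (φ : K →* H) {v0 : K}
    (hv0 : v0 ∈ Subgroup.center K) (hv : ∃ n : ℕ, orderOf (φ v0) = p ^ n) {e : KG M H}
    (he : IsIdempotentElem e) (hf : Fixd {φ v0} e) {F : OG M K} (hF : IsIdempotentElem F)
    (hred : MonoidAlgebra.mapDomainRingHom (Res M) φ (red M K F) =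
      br (Subgroup.zpowers (φ v0)) e) :
    val ρ (φ v0) e = ∑ k, coefC F k * ρ.character (φ (v0 * k)) := by
  have := charP_res (M := M) hM
  set Ψ := MonoidAlgebra.mapDomainRingHom (localRing M) φ
  obtain ⟨m, hm⟩ := hv
  have hp : IsPGroup p (Subgroup.zpowers (φ v0)) :=
    IsPGroup.of_card (n := m) (by rw [Nat.card_zpowers, hm])
  have hbi : IsIdempotentElem (br (Subgroup.zpowers (φ v0)) e) := by
    show _ * _ = _
    rw [← br_mul hp (fixd_zpowers.mpr hf) (fixd_zpowers.mpr hf), he.eq]
  rw [val_eq_of_br_eq ρ hM ⟨m, hm⟩ he hbi hf (fixd_zpowers.mp (fixd_br e))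
    (br_mono le_rfl e).symm]
  have hfix : Fixd {φ v0} (Ψ F) := by
    rintro _ rfl
    have h1 : cj v0 F = F := MonoidAlgebra.ext (Finsupp.ext fun x => by
      rw [coeff_cj, mul_assoc, Subgroup.mem_center_iff.mp hv0 x, inv_mul_cancel_left])
    conv_rhs => rw [← h1]
    simp only [cj, map_mul, Ψ, mapDomain_of, map_inv]
  rw [val_eq ρ (hF.map Ψ) hfix ((red_mapDomain φ F).trans hred)]
  conv_lhs => rw [show F = ∑ k : K, F.coeff k • MonoidAlgebra.of (localRing M) K k from
    MonoidAlgebra.ext (Finsupp.ext fun g => by simp [Finsupp.single_apply])]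
  rw [map_sum, Finset.mul_sum, map_sum]
  refine Finset.sum_congr rfl fun k _ => ?_
  rw [show Ψ (F.coeff k • MonoidAlgebra.of (localRing M) K k) =
      F.coeff k • MonoidAlgebra.of (localRing M) H (φ k) by
    simp [Ψ, MonoidAlgebra.of_apply], mul_smul_comm, ← map_mul, tau_smul, tau_of, ← map_mul]
  rfl

/-- The expansion along the characters of the centralizer. -/
theorem sum_eq_expand (χ : IrrCharacter H) (φ : K →* H) {v0 : K}
    (hv0 : v0 ∈ Subgroup.center K) (F : OG M K) :
    ∑ k, coefC F k * (χ : H → ℂ) (φ (v0 * k)) =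
      ∑ θ : IrrCharacter K, classInner (fun k => (χ : H → ℂ) (φ k)) (θ : K → ℂ) *
        cval θ v0 * ntr F θ := by
  have hcl : IsClassFunction K fun k => (χ : H → ℂ) (φ k) := fun k t => by
    simp only [map_mul φ, map_inv]
    exact irr_class χ _ _
  have hexp := CharCore.eq_sum_classInner hcl
  simp only [ntr, Finset.mul_sum]
  rw [Finset.sum_comm]
  refine Finset.sum_congr rfl fun k _ => ?_
  have h := congrFun hexp (v0 * k)
  simp only [Finset.sum_apply, Pi.smul_apply, smul_eq_mul] at h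
  rw [h, Finset.mul_sum]
  refine Finset.sum_congr rfl fun θ _ => ?_
  rw [← Subgroup.mem_center_iff.mp hv0 k, apply_mul_of_center θ hv0]
  ring

/-- The inner product of two columns as a double sum. -/
theorem col_double {K' : Type*} [Group K'] [Fintype K'] (φ : K →* H) (φ' : K' →* H) {v0 : K}
    {v0' : K'} (hv0 : v0 ∈ Subgroup.center K) (hv0' : v0' ∈ Subgroup.center K')
    (F : OG M K) (F' : OG M K') :
    ∑ χ : IrrCharacter H, (∑ k, coefC F k * (χ : H → ℂ) (φ (v0 * k))) *
        conj (∑ l, coefC F' l * (χ : H → ℂ) (φ' (v0' * l))) =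
      ∑ k, ∑ l, avg F k * conj (avg F' l) *
        ((Finset.univ.filter fun t : H => t * φ (v0 * k) * t⁻¹ = φ' (v0' * l)).card : ℂ) := by
  have e1 : ∀ χ : IrrCharacter H, ∑ k, coefC F k * (χ : H → ℂ) (φ (v0 * k)) =
      ∑ k, avg F k * (χ : H → ℂ) (φ (v0 * k)) := fun χ =>
    sum_coefC_eq_avg F (isClassFunction_section χ φ hv0)
  have e2 : ∀ χ : IrrCharacter H, ∑ k, coefC F' k * (χ : H → ℂ) (φ' (v0' * k)) =
      ∑ k, avg F' k * (χ : H → ℂ) (φ' (v0' * k)) := fun χ =>
    sum_coefC_eq_avg F' (isClassFunction_section χ φ' hv0')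
  simp only [e1, e2]
  simp only [map_sum, map_mul (starRingEnd ℂ), Finset.sum_mul,
    Finset.mul_sum, ← sum_irr_conj_eq_count (H := H)]
  conv_lhs => enter [2, χ]; rw [Finset.sum_comm]
  rw [Finset.sum_comm]
  refine Finset.sum_congr rfl fun k _ => ?_
  rw [Finset.sum_comm]
  refine Finset.sum_congr rfl fun l _ => Finset.sum_congr rfl fun χ _ => ?_
  ring

/-- The inner product of two columns at the same element. -/
theorem col_same (hM : IsPModular p M) (φ : K →* H) (hφ : Function.Injective φ) {v0 : K}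
    (hv0 : v0 ∈ Subgroup.center K) (hv : ∃ n : ℕ, orderOf (φ v0) = p ^ n)
    (hrange : ∀ h : H, h ∈ Subgroup.centralizer ({φ v0} : Set H) → h ∈ φ.range)
    {F F' : OG M K} (hF : IsIdempotentElem F) (hF' : IsIdempotentElem F') :
    ∑ χ : IrrCharacter H, (∑ k, coefC F k * (χ : H → ℂ) (φ (v0 * k))) *
        conj (∑ l, coefC F' l * (χ : H → ℂ) (φ (v0 * l))) =
      ∑ θ : IrrCharacter K, ntr F θ * conj (ntr F' θ) := by
  rw [col_double φ φ hv0 hv0]
  simp only [ntr_eq_avg, map_sum, map_mul (starRingEnd ℂ), Finset.sum_mul, Finset.mul_sum]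
  symm
  conv_lhs => enter [2, χ]; rw [Finset.sum_comm]
  rw [Finset.sum_comm]
  refine Finset.sum_congr rfl fun k _ => ?_
  rw [Finset.sum_comm]
  refine Finset.sum_congr rfl fun l _ => ?_
  by_cases hk : p ∣ orderOf k
  · simp [avg_singular hM hF hk]
  by_cases hl : p ∣ orderOf l
  · simp [avg_singular hM hF' hl]
  have hin : ∀ x : K, φ x ∈ Subgroup.centralizer ({φ v0} : Set H) := fun x => by
    rw [Subgroup.mem_centralizer_singleton_iff, ← map_mul, ← map_mul,
      Subgroup.mem_center_iff.mp hv0 x]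
  have hcount : (Finset.univ.filter fun t : H => t * φ (v0 * k) * t⁻¹ = φ (v0 * l)).card =
      (Finset.univ.filter fun t : K => t * k * t⁻¹ = l).card := by
    symm
    refine Finset.card_bij (fun t _ => φ t) (fun t ht => ?_) (fun a _ b _ h => hφ h)
      fun t ht => ?_
    · refine Finset.mem_filter.mpr ⟨Finset.mem_univ _, ?_⟩
      rw [← (Finset.mem_filter.mp ht).2, ← map_inv, ← map_mul, ← map_mul,
        ← mul_assoc t v0 k, Subgroup.mem_center_iff.mp hv0 t]
      congr 1
      group
    · have ht' := (Finset.mem_filter.mp ht).2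
      rw [map_mul, map_mul] at ht'
      obtain ⟨h1, h2⟩ := CharCore.BlockSections.fixes_of_conj (Fact.out : p.Prime) hv
        (s := ⟨φ k, hin k⟩) (t := ⟨φ l, hin l⟩)
        (by rwa [← Subgroup.orderOf_coe, orderOf_injective φ hφ])
        (by rwa [← Subgroup.orderOf_coe, orderOf_injective φ hφ]) (g := t) ht'
      obtain ⟨t', rfl⟩ := hrange t h1
      refine ⟨t', Finset.mem_filter.mpr ⟨Finset.mem_univ _, hφ ?_⟩, rfl⟩
      simpa [map_mul, map_inv] using h2
  rw [hcount, ← sum_irr_conj_eq_count, Finset.mul_sum]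
  refine Finset.sum_congr rfl fun θ _ => ?_
  ring

/-- Columns at elements which are not conjugate are orthogonal. -/
theorem col_ne (hM : IsPModular p M) {K' : Type*} [Group K'] [Fintype K'] (φ : K →* H)
    (hφ : Function.Injective φ) (φ' : K' →* H) (hφ' : Function.Injective φ') {v0 : K} {v0' : K'}
    (hv0 : v0 ∈ Subgroup.center K) (hv0' : v0' ∈ Subgroup.center K')
    (hv : ∃ n : ℕ, orderOf (φ v0) = p ^ n) (hv' : ∃ n : ℕ, orderOf (φ' v0') = p ^ n)
    (hne : ∀ t : H, t * φ v0 * t⁻¹ ≠ φ' v0')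
    {F : OG M K} {F' : OG M K'} (hF : IsIdempotentElem F) (hF' : IsIdempotentElem F') :
    ∑ χ : IrrCharacter H, (∑ k, coefC F k * (χ : H → ℂ) (φ (v0 * k))) *
        conj (∑ l, coefC F' l * (χ : H → ℂ) (φ' (v0' * l))) = 0 := by
  rw [col_double φ φ' hv0 hv0']
  refine Finset.sum_eq_zero fun k _ => Finset.sum_eq_zero fun l _ => ?_
  by_cases hk : p ∣ orderOf k
  · simp [avg_singular hM hF hk]
  by_cases hl : p ∣ orderOf l
  · simp [avg_singular hM hF' hl]
  rw [Finset.card_eq_zero.mpr (Finset.filter_eq_empty_iff.mpr fun t _ ht => hne t ?_),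
    Nat.cast_zero, mul_zero]
  have h1 : pp p (φ (v0 * k)) = φ v0 := by
    rw [map_mul]
    exact pp_mul hv (by rwa [orderOf_injective φ hφ])
      ((show Commute v0 k from (Subgroup.mem_center_iff.mp hv0 k).symm).map φ)
  have h2 : pp p (φ' (v0' * l)) = φ' v0' := by
    rw [map_mul]
    exact pp_mul hv' (by rwa [orderOf_injective φ' hφ'])
      ((show Commute v0' l from (Subgroup.mem_center_iff.mp hv0' l).symm).map φ')
  rw [← h1, ← h2, ← pp_conj, ht]

/-- Columns at nontrivial elements are orthogonal to the degrees. -/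
theorem col_one (hM : IsPModular p M) (φ : K →* H) (hφ : Function.Injective φ) {v0 : K}
    (hv0 : v0 ∈ Subgroup.center K) (hv : ∃ n : ℕ, orderOf (φ v0) = p ^ n) (hv1 : φ v0 ≠ 1)
    {F : OG M K} (hF : IsIdempotentElem F) :
    ∑ χ : IrrCharacter H, (χ : H → ℂ) 1 * ∑ k, coefC F k * (χ : H → ℂ) (φ (v0 * k)) = 0 := by
  have e1 : ∀ χ : IrrCharacter H, ∑ k, coefC F k * (χ : H → ℂ) (φ (v0 * k)) =
      ∑ k, avg F k * (χ : H → ℂ) (φ (v0 * k)) := fun χ =>
    sum_coefC_eq_avg F (isClassFunction_section χ φ hv0)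
  simp only [e1, Finset.mul_sum]
  rw [Finset.sum_comm]
  refine Finset.sum_eq_zero fun k _ => ?_
  by_cases hk : p ∣ orderOf k
  · simp [avg_singular hM hF hk]
  have h1 : φ (v0 * k) ≠ 1 := fun h0 => hv1 (by
    have h := pp_mul hv (by rwa [orderOf_injective φ hφ] : ¬ p ∣ orderOf (φ k))
      ((show Commute v0 k from (Subgroup.mem_center_iff.mp hv0 k).symm).map φ)
    rw [← map_mul, h0] at h
    rw [← h]
    exact pp_eq ⟨1, by simp, Commute.one_left 1, ⟨0, by simp⟩, by
      simpa using (Fact.out : p.Prime).ne_one⟩)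
  calc _ = avg F k * ∑ χ : IrrCharacter H, (χ : H → ℂ) (φ (v0 * k)) * conj ((χ : H → ℂ) 1) := by
        rw [Finset.mul_sum]
        refine Finset.sum_congr rfl fun χ _ => ?_
        rw [conj_irr, inv_one]
        ring
    _ = 0 := by
        rw [sum_irr_conj_eq_count, Finset.card_eq_zero.mpr (Finset.filter_eq_empty_iff.mpr
          fun t _ ht => h1 (conj_eq_one_iff.mp ht)), Nat.cast_zero, mul_zero]

end Two

end Cfsg.Agent.BlkChar.FreeAbelian
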