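import Cfsg.Agent.BlkChar.FreeAbelian.Sign

/-!
# Normalised signs and gluing over the subgroups

A rational generalized character of an abelian `2`-group with odd values becomes congruent to a
constant modulo `4` after a twist by a real linear character. Generalized characters prescribed
on every nontrivial subgroup through the join glue along the Möbius function.
-/

set_option autoImplicit false
set_option linter.unusedSectionVars false
set_option linter.style.haveILetI false

namespace Cfsg.Agent.BlkChar.FreeAbelian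

open BlocksCore CharCore
open scoped ComplexConjugate Classical

attribute [local instance] Fintype.ofFinite

variable {A : Type*} [CommGroup A] [Finite A] {p : ℕ} [Fact p.Prime]

/-- The modulus detecting signs. -/
def sgnMod (p : ℕ) : ℕ := if p = 2 then 4 else p

/-- An element of order `4 * 2 ^ r` and its odd power `1 + orderOf / 2`. -/
theorem pow_twist {G : Type*} [Group G] (l : G) (r : ℕ) (hr : orderOf l = 4 * 2 ^ r) :
    l ^ (1 + orderOf l / 2) ≠ l ∧ (l ^ (1 + orderOf l / 2)) ^ (1 + orderOf l / 2) = l ∧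
      (l ^ (orderOf l / 2)) ^ 2 = 1 := by
  have hhalf : orderOf l / 2 = 2 * 2 ^ r := by omega
  have h2r := Nat.two_pow_pos r
  refine ⟨fun h => ?_, ?_, ?_⟩
  · rw [pow_add, pow_one, mul_eq_left] at h
    have := Nat.le_of_dvd (by omega) (orderOf_dvd_of_pow_eq_one h)
    omega
  · rw [← pow_mul, hhalf,
      show (1 + 2 * 2 ^ r) * (1 + 2 * 2 ^ r) = 1 + (4 * 2 ^ r) * (1 + 2 ^ r) by ring, pow_add,
      pow_one, pow_mul, ← hr, pow_orderOf_eq_one, one_pow, mul_one]
  · rw [← pow_mul, show orderOf l / 2 * 2 = orderOf l by omega, pow_orderOf_eq_one]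

theorem four_dvd_second_diff {M : Ideal AlgInt} (hM : IsPModular 2 M) (hA : IsPGroup 2 A)
    {H : A → ℤ} (hH : IsGeneralizedCharacter A (fun v => (H v : ℂ))) (v w : A) :
    (4 : ℤ) ∣ H (v * w) - H v - H w + H 1 := by
  have := BlocksCore.isPrime hM
  obtain ⟨φ⟩ := CommGroup.monoidHom_mulEquiv_of_hasEnoughRootsOfUnity A ℂ
  haveI : Finite (A →* ℂˣ) := Finite.of_equiv _ φ.symm.toEquiv
  let ι : (A →* ℂˣ) ≃ IrrCharacter A := Equiv.ofBijective
    (fun l => (⟨_, isIrrCharacter_hom l⟩ : IrrCharacter A))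
    ⟨fun l l' h => MonoidHom.ext fun x => Units.ext (congrFun (congrArg Subtype.val h) x),
     fun θ => by
      obtain ⟨l, hl⟩ := BC84.SolvReal.exists_hom_of_comm (fun a b : A => mul_comm a b) θ
      exact ⟨l, Subtype.ext hl.symm⟩⟩
  choose a ha using fun l : A →* ℂˣ =>
    IsGeneralizedCharacter.exists_classInner_irr_eq_intCast hH (ι l)
  have hexp : ∀ x, (H x : ℂ) = ∑ l : A →* ℂˣ, (a l : ℂ) * (l x : ℂ) := fun x => by
    have h := congrFun (eq_sum_classInner (IsGeneralizedCharacter.isClassFunction hH)) x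
    simp only [Finset.sum_apply, Pi.smul_apply, smul_eq_mul] at h
    rw [h, ← ι.sum_comp]
    exact Finset.sum_congr rfl fun l _ => by rw [ha]; rfl
  have hcard : (Nat.card A : ℂ) ≠ 0 := Nat.cast_ne_zero.mpr Nat.card_pos.ne'
  -- coefficients are constant along Galois orbits
  have hgal : ∀ (l : A →* ℂˣ) (j : ℕ), j.Coprime (Nat.card A) → a (l ^ j) = a l := by
    intro l j hj
    obtain ⟨σ, hσ⟩ := CharClifford.exists_ringHom_pow (Nat.card_pos (α := A)).ne' hj
    have hroot : ∀ x : A, σ (conj (l x : ℂ)) = conj ((l ^ j) x : ℂ) := fun x => by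
      rw [hσ _ (by rw [← map_pow, ← Units.val_pow_eq_pow_val, ← map_pow, pow_card_eq_one',
        map_one, Units.val_one, map_one])]
      simp [map_pow]
    have h1 := congrArg σ (ha l)
    rw [map_intCast, classInner, map_mul, map_inv₀, map_natCast, map_sum] at h1
    refine Int.cast_injective (α := ℂ) ?_
    rw [← ha (l ^ j), ← h1, classInner]
    congr 1
    refine Finset.sum_congr rfl fun x _ => ?_
    rw [map_mul, map_intCast]
    congr 1
    exact (hroot x).symm
  -- work modulo twice the ideal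
  let J : Ideal AlgInt := Ideal.span {2} * M
  let toA : (A →* ℂˣ) → A → AlgInt := fun l x => ⟨(l x : ℂ), isIntegral_irr (ι l) x⟩
  let term : (A →* ℂˣ) → AlgInt := fun l =>
    (a l : AlgInt) * ((toA l v - 1) * (toA l w - 1))
  set D : ℤ := H (v * w) - H v - H w + H 1 with hD
  have hDsum : (D : AlgInt) = ∑ l, term l := by
    refine Subtype.ext ?_
    push_cast [term, hD]
    rw [hexp, hexp, hexp, hexp, ← Finset.sum_sub_distrib, ← Finset.sum_sub_distrib,
      ← Finset.sum_add_distrib]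
    refine Finset.sum_congr rfl fun l _ => ?_
    simp only [map_mul, map_one, Units.val_mul, Units.val_one, toA]
    ring
  have htwo : (2 : AlgInt) ∈ M := by simpa using hM.2.2
  have hmemJ : ∀ y ∈ M, (2 : AlgInt) * y ∈ J := fun y hy =>
    Ideal.mul_mem_mul (Ideal.mem_span_singleton_self _) hy
  have hroot1 : ∀ (l : A →* ℂˣ) (x : A), toA l x - 1 ∈ M := fun l x => by
    obtain ⟨n, hn⟩ := hA x
    refine sub_one_mem_of_pow_prime_pow hM (k := n) (Subtype.ext ?_)
    show (l x : ℂ) ^ 2 ^ n = 1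
    rw [← Units.val_pow_eq_pow_val, ← map_pow, hn, map_one, Units.val_one]
  have hsign : ∀ z : AlgInt, z ^ 2 = 1 → z = 1 ∨ z = -1 := fun z hz => sq_eq_one_iff.mp hz
  have hmem : (D : AlgInt) ∈ J := by
    rw [hDsum, ← Ideal.Quotient.eq_zero_iff_mem, map_sum,
      ← Finset.sum_filter_add_sum_filter_not Finset.univ (fun l : A →* ℂˣ => l ^ 2 = 1)]
    have h1 : ∀ l : A →* ℂˣ, l ^ 2 = 1 → term l ∈ J := by
      intro l hl
      have hpm : ∀ x, toA l x = 1 ∨ toA l x = -1 := fun x => hsign _ <| Subtype.ext <| by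
        show (l x : ℂ) ^ 2 = 1
        rw [← Units.val_pow_eq_pow_val, ← MonoidHom.pow_apply, hl, MonoidHom.one_apply,
          Units.val_one]
      refine Ideal.mul_mem_left _ _ ?_
      rcases hpm v with h | h <;> rcases hpm w with h' | h' <;> rw [h, h']
      · simp
      · simp
      · simp
      · rw [show ((-1 : AlgInt) - 1) * (-1 - 1) = 2 * 2 by norm_num]
        exact hmemJ _ htwo
    rw [Finset.sum_eq_zero fun l hl =>
      Ideal.Quotient.eq_zero_iff_mem.mpr (h1 l (Finset.mem_filter.mp hl).2), zero_add]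
    have hord : ∀ l : A →* ℂˣ, l ^ 2 ≠ 1 → ∃ r, orderOf l = 4 * 2 ^ r := by
      intro l hl
      obtain ⟨n, hn⟩ := hA.exists_card_eq
      have hc : l ^ 2 ^ n = 1 := MonoidHom.ext fun x => by
        rw [MonoidHom.pow_apply, ← map_pow, ← hn, pow_card_eq_one', map_one, MonoidHom.one_apply]
      obtain ⟨k, -, hk⟩ := (Nat.dvd_prime_pow Nat.prime_two).mp (orderOf_dvd_of_pow_eq_one hc)
      match k, hk with
      | 0, hk => exact absurd (by simp [orderOf_eq_one_iff.mp (by simpa using hk)]) hl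
      | 1, hk => exact absurd (by
          conv_lhs => rw [show 2 = orderOf l by simpa using hk.symm]
          exact pow_orderOf_eq_one l) hl
      | k + 2, hk => exact ⟨k, by rw [hk, pow_add]; ring⟩
    let τ : (A →* ℂˣ) → (A →* ℂˣ) := fun l => l ^ (1 + orderOf l / 2)
    have hfacts : ∀ l : A →* ℂˣ, l ^ 2 ≠ 1 →
        τ l ≠ l ∧ τ (τ l) = l ∧ τ l ^ 2 ≠ 1 ∧ (1 + orderOf l / 2).Coprime (Nat.card A) ∧
        (l ^ (orderOf l / 2)) ^ 2 = 1 := by
      intro l hl
      obtain ⟨r, hr⟩ := hord l hl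
      have hhalf : orderOf l / 2 = 2 * 2 ^ r := by omega
      have hoddj : Odd (1 + orderOf l / 2) := ⟨2 ^ r, by omega⟩
      have hco : (1 + orderOf l / 2).Coprime (Nat.card A) := by
        obtain ⟨n, hn⟩ := hA.exists_card_eq
        rw [hn]
        exact Nat.Coprime.pow_right _ (Nat.coprime_two_right.mpr hoddj)
      have hordτ : orderOf (τ l) = orderOf l := by
        refine Nat.Coprime.orderOf_pow ?_
        conv => enter [1]; rw [hr, show 4 * 2 ^ r = 2 ^ (r + 2) by ring]
        exact Nat.Coprime.pow_left _ (Nat.coprime_two_left.mpr hoddj)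
      obtain ⟨ht1, ht2, ht3⟩ := pow_twist l r hr
      refine ⟨ht1, ?_, fun h => ?_, hco, ht3⟩
      · show (τ l) ^ (1 + orderOf (τ l) / 2) = l
        rw [hordτ]
        exact ht2
      · have h2 := orderOf_dvd_of_pow_eq_one h
        rw [hordτ, hr] at h2
        have := Nat.le_of_dvd two_pos h2
        have := Nat.two_pow_pos r
        omega
    refine Finset.sum_involution (fun l _ => τ l) (fun l hl => ?_)
      (fun l hl _ => (hfacts l (Finset.mem_filter.mp hl).2).1)
      (fun l hl => Finset.mem_filter.mpr ⟨Finset.mem_univ _,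
        (hfacts l (Finset.mem_filter.mp hl).2).2.2.1⟩)
      (fun l hl => (hfacts l (Finset.mem_filter.mp hl).2).2.1)
    obtain ⟨-, -, -, hco, hsq⟩ := hfacts l (Finset.mem_filter.mp hl).2
    rw [← map_add, Ideal.Quotient.eq_zero_iff_mem]
    set j := orderOf l / 2
    have hτv : ∀ x, toA (τ l) x = toA (l ^ j) x * toA l x := fun x => Subtype.ext <| by
      show ((l ^ (1 + j)) x : ℂ) = ((l ^ j) x : ℂ) * (l x : ℂ)
      rw [MonoidHom.pow_apply, MonoidHom.pow_apply, pow_add, pow_one, Units.val_mul, mul_comm]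
    have hpm : ∀ x, toA (l ^ j) x = 1 ∨ toA (l ^ j) x = -1 := fun x => hsign _ <| Subtype.ext <| by
      show ((l ^ j) x : ℂ) ^ 2 = 1
      rw [← Units.val_pow_eq_pow_val, ← MonoidHom.pow_apply, hsq, MonoidHom.one_apply, Units.val_one]
    simp only [term]
    rw [show a (τ l) = a l from hgal l _ hco, ← mul_add, hτv, hτv]
    refine Ideal.mul_mem_left _ _ ?_
    set x := toA l v
    set y := toA l w
    rcases hpm v with h | h <;> rcases hpm w with h' | h' <;> rw [h, h']
    · rw [show (x - 1) * (y - 1) + (1 * x - 1) * (1 * y - 1) = 2 * ((x - 1) * (y - 1)) by ring]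
      exact hmemJ _ (M.mul_mem_right _ (hroot1 l v))
    · rw [show (x - 1) * (y - 1) + (1 * x - 1) * (-1 * y - 1) = 2 * -(x - 1) by ring]
      exact hmemJ _ (M.neg_mem (hroot1 l v))
    · rw [show (x - 1) * (y - 1) + (-1 * x - 1) * (1 * y - 1) = 2 * -(y - 1) by ring]
      exact hmemJ _ (M.neg_mem (hroot1 l w))
    · rw [show (x - 1) * (y - 1) + (-1 * x - 1) * (-1 * y - 1) =
        2 * ((x - 1) * y + (y - 1) + 2) by ring]
      exact hmemJ _ (M.add_mem (M.add_mem (M.mul_mem_right _ (hroot1 l v)) (hroot1 l w)) htwo)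
  obtain ⟨y, hy, hy2⟩ := Ideal.mem_span_singleton_mul.mp hmem
  have hy' : (y : ℂ) = (((D : ℚ) / 2 : ℚ) : ℂ) := by
    have : (2 : ℂ) * (y : ℂ) = (D : ℂ) := by
      have h := congrArg (fun z : AlgInt => (z : ℂ)) hy2
      have h2 : ((2 : AlgInt) : ℂ) = 2 := map_ofNat AlgInt.subtype 2
      simpa [h2] using h
    push_cast
    linear_combination this / 2
  obtain ⟨k, hk⟩ := CharClifford.exists_int_of_isIntegral_rat (q := (D : ℚ) / 2)
    (by rw [← hy']; exact y.2)
  have hDk : D = 2 * k := by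
    have : (D : ℚ) = 2 * k := by rw [← hk]; ring
    exact_mod_cast this
  have hyk : y = (k : AlgInt) := Subtype.ext (by rw [hy', hk]; push_cast; ring)
  obtain ⟨i, hi⟩ := (intCast_mem_iff hM k).mp (hyk ▸ hy)
  exact ⟨i, by rw [hDk, hi]; ring⟩

/-- A twist congruent to a constant. -/
theorem exists_normalised {M : Ideal AlgInt} (hM : IsPModular p M) (hA : IsPGroup p A)
    {H : A → ℤ} (hH : IsGeneralizedCharacter A (fun v => (H v : ℂ)))
    (hp : ∀ v, ¬ (p : ℤ) ∣ H v) :
    ∃ H' : A → ℤ, IsGeneralizedCharacter A (fun v => (H' v : ℂ)) ∧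
      (∀ v, H' v = H v ∨ H' v = -H v) ∧ ∀ v, (sgnMod p : ℤ) ∣ H' v - H' 1 := by
  by_cases h2 : p = 2
  swap
  · exact ⟨H, hH, fun v => Or.inl rfl, fun v => by
      rw [sgnMod, if_neg h2]; exact dvd_sub_one hM hA hH v⟩
  subst h2
  -- the sign `(-1) ^ ((H v - H 1) / 2)` is a homomorphism
  have heven : ∀ v, (2 : ℤ) ∣ H v - H 1 := fun v => by simpa using dvd_sub_one hM hA hH v
  let ν : A →* ℂˣ :=
    { toFun := fun v => (-1) ^ ((H v - H 1) / 2)
      map_one' := by simp
      map_mul' := fun v w => by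
        show _ = (-1 : ℂˣ) ^ _ * (-1) ^ _
        obtain ⟨i, hi⟩ := four_dvd_second_diff hM hA hH v w
        obtain ⟨r, hr⟩ := heven v
        obtain ⟨s, hs⟩ := heven w
        rw [show (H (v * w) - H 1) / 2 = (H v - H 1) / 2 + (H w - H 1) / 2 + 2 * i by omega,
          zpow_add, zpow_add, zpow_mul]
        simp }
  have hν : ∀ v, ∃ s : ℤ, (ν v : ℂ) = s ∧ (s = 1 ∧ (4 : ℤ) ∣ H v - H 1 ∨
      s = -1 ∧ (4 : ℤ) ∣ -H v - H 1) := fun v => by
    obtain ⟨r, hr⟩ := heven v
    have hodd : ¬ (2 : ℤ) ∣ H 1 := hp 1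
    have hval : (ν v : ℂ) = (-1) ^ r := by
      show (((-1 : ℂˣ) ^ ((H v - H 1) / 2) : ℂˣ) : ℂ) = _
      rw [show (H v - H 1) / 2 = r by omega, Units.val_zpow_eq_zpow_val]
      simp
    rcases Int.even_or_odd r with ⟨i, hi⟩ | ⟨i, hi⟩
    · exact ⟨1, by rw [hval, hi, ← two_mul, zpow_mul]; simp, Or.inl ⟨rfl, i, by omega⟩⟩
    · exact ⟨-1, by rw [hval, hi, zpow_add₀ (by norm_num), zpow_mul]; simp,
        Or.inr ⟨rfl, by omega⟩⟩
  choose s hs hs' using hν
  refine ⟨fun v => s v * H v, ?_, fun v => ?_, fun v => ?_⟩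
  · convert isGeneralized_mul (CharCore.irr_isGeneralized ⟨_, isIrrCharacter_hom ν⟩) hH using 1
    funext v
    push_cast
    rw [← hs]
    rfl
  · rcases hs' v with ⟨h, -⟩ | ⟨h, -⟩ <;> simp [h]
  · have h1 : s 1 = 1 := by
      have := hs 1
      simp only [map_one, Units.val_one] at this
      exact_mod_cast this.symm
    rw [sgnMod, if_pos rfl]
    rcases hs' v with ⟨h, h4⟩ | ⟨h, h4⟩ <;> simp only [h, h1, one_mul, neg_one_mul] <;>
      simpa using h4

/-- The Möbius function of the lattice of subgroups below a subgroup. -/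
noncomputable def mu (R : Subgroup A) : ℤ :=
  if R = ⊥ then 1 else -∑ S : {S : Subgroup A // S < R}, mu S.1
termination_by Nat.card R
decreasing_by exact Set.ncard_lt_ncard (SetLike.coe_ssubset_coe.mpr S.2)

theorem sum_mu (R : Subgroup A) :
    ∑ S ∈ Finset.univ.filter (fun S : Subgroup A => S ≤ R), mu S = if R = ⊥ then 1 else 0 := by
  have h1 : Finset.univ.filter (fun S : Subgroup A => S ≤ R) =
      insert R (Finset.univ.filter fun S : Subgroup A => S < R) := by
    ext S
    simp [le_iff_lt_or_eq, or_comm]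
  rw [h1, Finset.sum_insert (by simp),
    Finset.sum_subtype (p := fun S : Subgroup A => S < R)
      (Finset.univ.filter fun S : Subgroup A => S < R) (fun S => by simp) mu]
  by_cases hR : R = ⊥
  · subst hR
    haveI : IsEmpty {S : Subgroup A // S < ⊥} := ⟨fun S => not_lt_bot S.2⟩
    rw [mu, if_pos rfl, if_pos rfl, Finset.sum_eq_zero fun S _ => isEmptyElim S, add_zero]
  · rw [if_neg hR, mu, if_neg hR, neg_add_cancel]

/-- Weisner: the Möbius function sums to zero over the subgroups with a given join with a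
non-trivial subgroup. -/
theorem sum_mu_join (V : Subgroup A) (hV : V ≠ ⊥) : ∀ (n : ℕ) (R : Subgroup A), Nat.card R ≤ n →
    ∑ S ∈ Finset.univ.filter (fun S : Subgroup A => S ⊔ V = R), mu S = 0 := by
  intro n
  induction n with
  | zero => exact fun R hR => absurd hR (not_le.mpr Nat.card_pos)
  | succ n ih =>
    intro R hR
    by_cases hVR : V ≤ R
    swap
    · exact Finset.sum_eq_zero fun S hS => absurd ((Finset.mem_filter.mp hS).2 ▸ le_sup_right) hVR
    have hR0 : R ≠ ⊥ := fun h => hV (le_bot_iff.mp (h ▸ hVR))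
    have h := sum_mu R
    rw [if_neg hR0, ← Finset.sum_fiberwise_of_maps_to (g := fun S => S ⊔ V)
      (t := Finset.univ.filter fun S : Subgroup A => S ≤ R) (fun S hS => Finset.mem_filter.mpr
        ⟨Finset.mem_univ _, sup_le (Finset.mem_filter.mp hS).2 hVR⟩)] at h
    refine Eq.trans ?_ ((Finset.sum_eq_single (s := Finset.univ.filter fun S : Subgroup A => S ≤ R) R (fun R' hR' hne => ?_)
      (fun h' => absurd (by simp) h')).symm.trans h)
    · refine Finset.sum_congr ?_ fun _ _ => rfl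
      ext S
      simp only [Finset.mem_filter, Finset.mem_univ, true_and]
      exact ⟨fun hS => ⟨hS ▸ le_sup_left, hS⟩, And.right⟩
    · have hlt : R' < R := lt_of_le_of_ne (Finset.mem_filter.mp hR').2 hne
      have hc : Nat.card R' < Nat.card R :=
        Set.ncard_lt_ncard (SetLike.coe_ssubset_coe.mpr hlt)
      refine Eq.trans (Finset.sum_congr ?_ fun _ _ => rfl) (ih R' (by omega))
      ext S
      simp only [Finset.mem_filter, Finset.mem_univ, true_and]
      exact ⟨And.right, fun hS => ⟨(hS ▸ le_sup_left).trans hlt.le, hS⟩⟩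

/-- Gluing. -/
theorem exists_glue (g : Subgroup A → ℤ)
    (hg : ∀ S : Subgroup A, S ≠ ⊥ →
      IsGeneralizedCharacter A (fun v => (g (S ⊔ Subgroup.zpowers v) : ℂ))) :
    ∃ f : A → ℂ, IsGeneralizedCharacter A f ∧
      ∀ v : A, v ≠ 1 → f v = (g (Subgroup.zpowers v) : ℂ) := by
  refine ⟨∑ S ∈ Finset.univ.filter (fun S : Subgroup A => S ≠ ⊥),
    ((-mu S : ℤ) : ℂ) • fun v => (g (S ⊔ Subgroup.zpowers v) : ℂ),
    isGeneralized_sum _ _ fun S hS =>
      isGeneralized_intCast_smul (hg S (Finset.mem_filter.mp hS).2) _, fun v hv => ?_⟩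
  set V := Subgroup.zpowers v with hV
  have hV0 : V ≠ ⊥ := Subgroup.zpowers_ne_bot.mpr hv
  have hall : ∑ S : Subgroup A, (mu S : ℂ) * (g (S ⊔ V) : ℂ) = 0 := by
    rw [← Finset.sum_fiberwise_of_maps_to (g := fun S => S ⊔ V)
      (t := (Finset.univ : Finset (Subgroup A))) (fun S _ => Finset.mem_univ _)]
    refine Finset.sum_eq_zero fun R _ => ?_
    rw [Finset.sum_congr rfl (g := fun S => (mu S : ℂ) * (g R : ℂ)) fun S hS => by
      rw [(Finset.mem_filter.mp hS).2], ← Finset.sum_mul, ← Int.cast_sum,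
      sum_mu_join V hV0 _ R le_rfl, Int.cast_zero, zero_mul]
  rw [← Finset.add_sum_erase _ _ (Finset.mem_univ (⊥ : Subgroup A)), bot_sup_eq, mu, if_pos rfl,
    Int.cast_one, one_mul] at hall
  simp only [Finset.sum_apply, Pi.smul_apply, smul_eq_mul, Int.cast_neg, neg_mul,
    Finset.sum_neg_distrib]
  rw [Finset.filter_ne', neg_eq_iff_eq_neg]
  linear_combination hall

end Cfsg.Agent.BlkChar.FreeAbelian
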