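import Cfsg.Agent.BlkChar.AbelianSubsection
import Cfsg.Agent.BC85.Star.NilpotentMain
import Mathlib.Data.ZMod.Basic

/-!
# The inertial quotient of a homocyclic two-group of rank two

It acts freely and has order one or three.
-/

set_option autoImplicit false

namespace Cfsg.Agent.BlkChar.FreeAbelian.Homocyclic

open BlocksCore BlocksDefect BC85
open scoped Classical

/-- An automorphism of odd order of an abelian 2-group fixing every element of square one is the
identity. -/
theorem eq_one_of_fix_involutions {A : Type*} [CommGroup A] [Finite A] (hA : IsPGroup 2 A)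
    (α : MulAut A) {n : ℕ} (hn : Odd n) (hαn : α ^ n = 1) (h : ∀ x : A, x ^ 2 = 1 → α x = x) :
    α = 1 := by
  refine MulEquiv.ext fun x => ?_
  show α x = x
  obtain ⟨k, hk⟩ := IsPGroup.iff_orderOf.mp hA x
  have hx : x ^ 2 ^ k = 1 := hk ▸ pow_orderOf_eq_one x
  clear hk
  induction k generalizing x with
  | zero => simp at hx; simp [hx]
  | succ k ih =>
    have h2 : α (x ^ 2) = x ^ 2 := ih (x ^ 2) (by rw [← pow_mul, ← pow_succ']; exact hx)
    set z := x⁻¹ * α x with hz
    have hz2 : z ^ 2 = 1 := by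
      rw [hz, mul_pow, inv_pow, ← map_pow, h2, inv_mul_cancel]
    have hfz : α z = z := h z hz2
    have hpow : ∀ i : ℕ, (α ^ i) x = x * z ^ i := by
      intro i
      induction i with
      | zero => simp
      | succ i ihi =>
        rw [pow_succ', MulAut.mul_apply, ihi, map_mul, map_pow, hfz]
        rw [show α x = x * z by rw [hz, mul_inv_cancel_left], mul_assoc, ← pow_succ']
    have hzn : z ^ n = 1 := by
      have h1 := hpow n
      rw [hαn, MulAut.one_apply] at h1
      exact mul_left_cancel (h1.symm.trans (mul_one x).symm)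
    obtain ⟨r, hr⟩ := hn
    have hz1 : z = 1 := by
      rwa [hr, pow_succ, pow_mul, hz2, one_pow, one_mul] at hzn
    rw [hz, inv_mul_eq_one] at hz1
    exact hz1.symm

theorem zmod_two_torsion {n : ℕ} [NeZero n] (hn : 2 ∣ n) (a : ZMod n) (ha : a + a = 0) :
    a = 0 ∨ a = ((n / 2 : ℕ) : ZMod n) := by
  have hlt := ZMod.val_lt a
  have h2 : n ∣ a.val + a.val := by
    rw [← ZMod.natCast_eq_zero_iff, Nat.cast_add, ZMod.natCast_zmod_val]
    exact ha
  obtain ⟨j, hj⟩ := h2
  rcases j with _ | _ | j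
  · left; exact (ZMod.val_eq_zero a).mp (by omega)
  · right
    rw [← ZMod.natCast_zmod_val a]
    congr 1
    omega
  · exfalso; nlinarith

/-- A group isomorphic to a product of two cyclic groups of even order has at most three
involutions. -/
theorem exists_involutions {A : Type*} [Group A] {n : ℕ} [NeZero n] (hn : 2 ∣ n)
    (e : A ≃* Multiplicative (ZMod n × ZMod n)) :
    ∃ a b c : A, ∀ x : A, x ^ 2 = 1 → x ≠ 1 → x = a ∨ x = b ∨ x = c := by
  set h : ZMod n := ((n / 2 : ℕ) : ZMod n)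
  refine ⟨e.symm (Multiplicative.ofAdd (h, 0)), e.symm (Multiplicative.ofAdd (0, h)),
    e.symm (Multiplicative.ofAdd (h, h)), fun x hx hx1 => ?_⟩
  have h2 : Multiplicative.toAdd (e x) + Multiplicative.toAdd (e x) = 0 := by
    rw [← toAdd_mul, ← pow_two, ← map_pow, hx, map_one, toAdd_one]
  obtain ⟨u, v, huv⟩ : ∃ u v, Multiplicative.toAdd (e x) = (u, v) := ⟨_, _, rfl⟩
  rw [huv, Prod.mk_add_mk, Prod.mk_eq_zero] at h2
  have hx' : x = e.symm (Multiplicative.ofAdd (u, v)) := by
    rw [← huv, ofAdd_toAdd, MulEquiv.symm_apply_apply]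
  rcases zmod_two_torsion hn u h2.1 with hu | hu <;> rcases zmod_two_torsion hn v h2.2 with hv | hv
  · refine absurd ?_ hx1
    rw [hx', hu, hv]
    exact map_one e.symm
  · right; left; rw [hx', hu, hv]
  · left; rw [hx', hu, hv]
  · right; right; rw [hx', hu, hv]

universe u

variable {G : Type u} [Group G] [Fintype G] {M : Ideal AlgInt} {B : Set (IrrCharacter G)}
  {D : Subgroup G} {c : Set (IrrCharacter (Subgroup.centralizer (D : Set G)))}

local notation "C[" Q "]" => Subgroup.centralizer (Q : Set G)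

variable (hM : IsPModular 2 M) (hmax : IsMaximalBrauerPair 2 M B D c)
  {n : ℕ} [NeZero n] (hn : 2 ∣ n) (hiso : D ≃* Multiplicative (ZMod n × ZMod n))

include hiso in
omit [Fintype G] [NeZero n] in
theorem comm_of_iso : ∀ x ∈ D, ∀ y ∈ D, x * y = y * x := by
  intro x hx y hy
  have : (⟨x, hx⟩ : D) * ⟨y, hy⟩ = ⟨y, hy⟩ * ⟨x, hx⟩ := hiso.injective (by
    rw [map_mul, map_mul, mul_comm])
  exact congrArg Subtype.val this

include hM hmax hn hiso

theorem free : ∀ g ∈ stabT D c, ∀ x ∈ D, x ≠ 1 → g * x * g⁻¹ = x → g ∈ C[D] := by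
  intro g hg x hx hx1 hfix
  have := isPrime hM
  have hab := comm_of_iso hiso
  have hDp : IsPGroup 2 D := hmax.1.1.1
  letI : CommGroup D := { (inferInstance : Group D) with
    mul_comm := fun a b => Subtype.ext (hab a a.2 b b.2) }
  have hnd := not_dvd_index_inertia hM hmax hab
  haveI : (C[D].subgroupOf (stabT D c)).Normal := Subgroup.normal_subgroupOf_of_le_normalizer
    ((inf_le_left : stabT D c ≤ _).trans (normalizer_le_normalizer_centralizer D))
  set α := Fusion.conjAutHom ⊤ D ⟨g, trivial, hg.1⟩ with hα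
  set r := (C[D].subgroupOf (stabT D c)).index with hr
  have hm : α ^ r = 1 := by
    have hmem := Subgroup.pow_index_mem (C[D].subgroupOf (stabT D c)) ⟨g, hg⟩
    rw [hα, ← map_pow, ← MonoidHom.mem_ker, Fusion.ker_conjAutHom, Subgroup.mem_subgroupOf]
    exact ⟨trivial, hmem⟩
  have hodd : Odd r := Nat.odd_iff.mpr (Nat.two_dvd_ne_zero.mp hnd)
  -- an involution fixed by the automorphism
  obtain ⟨k, hk⟩ := IsPGroup.iff_orderOf.mp hDp ⟨x, hx⟩
  set x' : D := ⟨x, hx⟩
  have hk0 : k ≠ 0 := by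
    rintro rfl
    rw [pow_zero, orderOf_eq_one_iff] at hk
    exact hx1 (congrArg Subtype.val hk)
  set z := x' ^ (2 ^ (k - 1)) with hz
  have hz2 : z ^ 2 = 1 := by
    rw [hz, ← pow_mul, ← pow_succ, Nat.sub_add_cancel (Nat.pos_of_ne_zero hk0), ← hk]
    exact pow_orderOf_eq_one _
  have hz1 : z ≠ 1 := by
    rw [hz]
    refine pow_ne_one_of_lt_orderOf (pow_ne_zero _ two_ne_zero) ?_
    rw [hk]
    exact Nat.pow_lt_pow_right (by norm_num) (by omega)
  have hαz : α z = z := by
    rw [hz, map_pow]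
    congr 1
    exact Subtype.ext hfix
  -- the square of the automorphism fixes all involutions
  obtain ⟨a, b, d, habd⟩ := exists_involutions hn hiso
  have hsq : ∀ y : D, y ^ 2 = 1 → (α ^ 2) y = y := by
    intro y hy
    rcases eq_or_ne y 1 with rfl | hy1
    · exact map_one _
    rcases eq_or_ne y z with rfl | hyz
    · rw [pow_two, MulAut.mul_apply, hαz, hαz]
    have h1 : ∀ w : D, w ^ 2 = 1 → w ≠ 1 → w ≠ z →
        (α w) ^ 2 = 1 ∧ α w ≠ 1 ∧ α w ≠ z := fun w hw hw1 hwz =>
      ⟨by rw [← map_pow, hw, map_one], fun h => hw1 (α.injective (h.trans (map_one α).symm)),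
        fun h => hwz (α.injective (h.trans hαz.symm))⟩
    obtain ⟨hy', hy1', hyz'⟩ := h1 y hy hy1 hyz
    obtain ⟨hy'', hy1'', hyz''⟩ := h1 _ hy' hy1' hyz'
    rw [pow_two, MulAut.mul_apply]
    by_cases heq : α y = y
    · rw [heq, heq]
    by_cases heq' : α (α y) = α y
    · exact absurd (α.injective heq') heq
    rcases habd z hz2 hz1 with e1 | e1 | e1 <;> rcases habd y hy hy1 with e2 | e2 | e2 <;>
      rcases habd _ hy' hy1' with e3 | e3 | e3 <;> rcases habd _ hy'' hy1'' with e4 | e4 | e4 <;>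
      first
        | exact e4.trans e2.symm
        | exact absurd (e2.trans e1.symm) hyz
        | exact absurd (e3.trans e1.symm) hyz'
        | exact absurd (e4.trans e1.symm) hyz''
        | exact absurd (e3.trans e2.symm) heq
        | exact absurd (e4.trans e3.symm) heq'
  have hα2 : α ^ 2 = 1 := eq_one_of_fix_involutions hDp _ hodd
    (by rw [← pow_mul, mul_comm, pow_mul, hm, one_pow]) hsq
  have hα1 : α = 1 := by
    obtain ⟨s, hs⟩ := hodd
    rwa [hs, pow_succ, pow_mul, hα2, one_pow, one_mul] at hm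
  refine Subgroup.mem_centralizer_iff.mpr fun q hq => ?_
  have := congrArg Subtype.val (DFunLike.congr_fun hα1 ⟨q, hq⟩)
  exact (mul_inv_eq_iff_eq_mul.mp this).symm

theorem relIndex_eq (hD1 : D ≠ ⊥) :
    C[D].relIndex (stabT D c) = 1 ∨ C[D].relIndex (stabT D c) = 3 := by
  have := isPrime hM
  have hab := comm_of_iso hiso
  have hfree := free hM hmax hn hiso
  obtain ⟨z, hz⟩ := exists_prime_orderOf_dvd_card' (G := D) 2 (by
    obtain ⟨k, hk⟩ := IsPGroup.iff_card.mp hmax.1.1.1
    rcases Nat.eq_zero_or_pos k with rfl | hk0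
    · exact absurd ((Subgroup.card_eq_one).mp (by simpa using hk)) hD1
    · rw [hk]; exact dvd_pow_self 2 hk0.ne')
  have hzo : orderOf (z : G) = 2 := by rw [Subgroup.orderOf_coe, hz]
  have hz1 : (z : G) ≠ 1 := fun h => by rw [h, orderOf_one] at hzo; omega
  have hcard := AbelianSubsection.card_orbit hM hmax hab hfree z.2 hz1
  obtain ⟨a, b, d, habd⟩ := exists_involutions hn hiso
  have hle : Nat.card {v : G // ∃ t ∈ stabT D c, t * (z : G) * t⁻¹ = v} ≤ 3 := by
    show Nat.card ↑{v : G | ∃ t ∈ stabT D c, t * (z : G) * t⁻¹ = v} ≤ 3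
    rw [Nat.card_coe_set_eq]
    refine (Set.ncard_le_ncard (t := ↑({(a : G), (b : G), (d : G)} : Finset G)) ?_
      (Finset.finite_toSet _)).trans ?_
    · rintro v ⟨t, ht, rfl⟩
      have hv : t * z * t⁻¹ ∈ D := (Subgroup.mem_normalizer_iff.mp ht.1 z).mp z.2
      have hsq : (⟨_, hv⟩ : D) ^ 2 = 1 := Subtype.ext (by
        show (t * z * t⁻¹) ^ 2 = 1
        rw [conj_pow, ← hzo, pow_orderOf_eq_one, mul_one, mul_inv_cancel])
      have hne : (⟨_, hv⟩ : D) ≠ 1 := fun h => hz1 (conj_eq_one_iff.mp (congrArg Subtype.val h))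
      rcases habd _ hsq hne with h | h | h <;> simp [← congrArg Subtype.val h]
    · rw [Set.ncard_coe_finset]
      exact Finset.card_le_three
  rw [hcard] at hle
  have hodd := not_dvd_index_inertia hM hmax hab
  have hpos : 0 < C[D].relIndex (stabT D c) := Nat.pos_of_ne_zero fun h => hodd (by
    rw [show (C[D].subgroupOf (stabT D c)).index = 0 from h]; exact dvd_zero 2)
  have hodd' : ¬ 2 ∣ C[D].relIndex (stabT D c) := hodd
  omega

theorem commutator_mem (hD1 : D ≠ ⊥) :
    ∀ g ∈ stabT D c, ∀ h ∈ stabT D c, g * h * g⁻¹ * h⁻¹ ∈ C[D] := by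
  intro g hg h hh
  haveI hN : (C[D].subgroupOf (stabT D c)).Normal := Subgroup.normal_subgroupOf_of_le_normalizer
    ((inf_le_left : stabT D c ≤ _).trans (normalizer_le_normalizer_centralizer D))
  have hcard : Nat.card (stabT D c ⧸ C[D].subgroupOf (stabT D c)) = 1 ∨
      Nat.card (stabT D c ⧸ C[D].subgroupOf (stabT D c)) = 3 := relIndex_eq hM hmax hn hiso hD1
  have hcomm : ∀ a b : stabT D c ⧸ C[D].subgroupOf (stabT D c), a * b = b * a := by
    intro a b
    rcases hcard with h1 | h3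
    · have := (Nat.card_eq_one_iff_unique.mp h1).1
      exact Subsingleton.elim _ _
    · haveI : Fact (Nat.Prime 3) := ⟨by norm_num⟩
      haveI := isCyclic_of_prime_card h3
      exact IsMulCommutative.is_comm.comm a b
  have := hcomm ((⟨g, hg⟩ : stabT D c) : stabT D c ⧸ C[D].subgroupOf (stabT D c))
    ((⟨h, hh⟩ : stabT D c) : _ ⧸ C[D].subgroupOf (stabT D c))
  have h1 : (((⟨g, hg⟩ : stabT D c) * ⟨h, hh⟩ * ⟨g, hg⟩⁻¹ * ⟨h, hh⟩⁻¹ : stabT D c) :
      stabT D c ⧸ C[D].subgroupOf (stabT D c)) = 1 := by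
    have this' : QuotientGroup.mk' (C[D].subgroupOf (stabT D c)) ⟨g, hg⟩ *
        QuotientGroup.mk' _ ⟨h, hh⟩ = QuotientGroup.mk' _ ⟨h, hh⟩ * QuotientGroup.mk' _ ⟨g, hg⟩ := this
    show QuotientGroup.mk' (C[D].subgroupOf (stabT D c)) _ = 1
    rw [map_mul, map_mul, map_mul, map_inv, map_inv, this']
    group
  have h2 := (QuotientGroup.eq_one_iff _).mp h1
  rwa [Subgroup.mem_subgroupOf] at h2

end Cfsg.Agent.BlkChar.FreeAbelian.Homocyclic
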