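import Cfsg.Agent.BlkChar.FreeAbelian.Homocyclic
import Cfsg.Prelude.Def_Blocks
import Cfsg.Prelude.Def_BlockRank

/-!
# Blocks with a homocyclic defect group of rank two

The invariants follow from the counts for a free abelian inertial quotient.
-/

set_option autoImplicit false

namespace Cfsg.Agent.BlkChar.FreeAbelian.HomocyclicCounts

open BlocksCore BlocksDefect BC85
open scoped Classical

universe u

theorem counts
    (hcounts : ∀ {G : Type u} [Group G] [Finite G] (p : ℕ) [Fact p.Prime] (M : Ideal Cfsg.AlgInt) (hM : Cfsg.IsPModular p M) (B : Set (Cfsg.IrrCharacter G)) (hB : Cfsg.IsPBlock M B) (P : Subgroup G) (hPD : Cfsg.IsDefectGroup p M B P) (hP1 : P ≠ ⊥) (hPab : ∀ x ∈ P, ∀ y ∈ P, x * y = y * x) (c : Set (Cfsg.IrrCharacter (Subgroup.centralizer (P : Set G)))) (hc : Cfsg.IsInducedBlock M (Subgroup.centralizer (P : Set G)) c B) (T : Subgroup G) (hT : ∀ g : G, g ∈ T ↔ (g ∈ Subgroup.normalizer (P : Set G) ∧ Cfsg.StabilizesBlock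 (Subgroup.centralizer (P : Set G)) c g)) (e : ℕ) (he : (Subgroup.centralizer (P : Set G)).relIndex T = e) (hEab : ∀ g ∈ T, ∀ h ∈ T, g * h * g⁻¹ * h⁻¹ ∈ Subgroup.centralizer (P : Set G)) (hfree : ∀ g ∈ T, ∀ x ∈ P, x ≠ 1 → g * x * g⁻¹ = x → g ∈ Subgroup.centralizer (P : Set G)), Nat.card B ≤ e + (Nat.card P - 1) / e ∧ Cfsg.blockRank p B ≤ e ∧ (Nat.card B = e + (Nat.card P - 1) / e ↔ Cfsg.blockRank p B = e) ∧ (e ≤ 3 → Nat.card B = e + (Nat.card P - 1) / e ∧ Cfsg.blockRank p B = e))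
    {G : Type u} [Group G] [Finite G] (M : Ideal AlgInt) (hM : IsPModular 2 M)
    (B : Set (IrrCharacter G)) (hB : IsPBlock M B) (D : Subgroup G)
    (hD : IsDefectGroup 2 M B D) (m : ℕ) (hm : 2 ≤ m)
    (hiso : Nonempty (D ≃* Multiplicative (ZMod (2 ^ m) × ZMod (2 ^ m)))) :
    (blockRank 2 B = 1 ∧ Nat.card B = 4 ^ m) ∨
      (blockRank 2 B = 3 ∧ 3 * Nat.card B = 4 ^ m + 8) := by
  have := isPrime hM
  have := Fintype.ofFinite G
  obtain ⟨iso⟩ := hiso
  haveI : NeZero (2 ^ m) := ⟨pow_ne_zero _ two_ne_zero⟩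
  have hn : 2 ∣ 2 ^ m := dvd_pow_self 2 (by omega)
  have hcard : Nat.card D = 4 ^ m := by
    rw [Nat.card_congr iso.toEquiv, Nat.card_congr Multiplicative.toAdd, Nat.card_prod,
      Nat.card_zmod, ← mul_pow]
    norm_num
  have hD1 : D ≠ ⊥ := fun h => by
    rw [h, Subgroup.card_bot] at hcard
    exact (Nat.one_lt_pow (by omega) (by norm_num : 1 < 4)).ne hcard
  obtain ⟨c, hmax⟩ := BC85.Star.exists_maximal_of_defect hM hB hD
  have hab := Homocyclic.comm_of_iso iso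
  have hPC : D ≤ Subgroup.centralizer (D : Set G) := fun u hu =>
    Subgroup.mem_centralizer_iff.mpr fun q hq => hab q hq u hu
  have hc : IsInducedBlock M (Subgroup.centralizer (D : Set G)) c B :=
    isInducedBlock_of_over hM hPC le_rfl hmax.1 hmax.1.1.2 fun θ hθ => by
      show θ ∈ unitSet M (pullFun (Subgroup.centralizer (D : Set G)).subtype (bp ⟨D, c⟩))
      rw [pullFun_bp, unitSet_blockCoeff hM]
      exact hθ
  obtain ⟨hk, hl, -, heq⟩ := hcounts 2 M hM B hB D hD hD1 hab c hc (stabT D c)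
    (fun g => mem_stabT_iff) _ rfl (Homocyclic.commutator_mem hM hmax hn iso hD1)
    (Homocyclic.free hM hmax hn iso)
  obtain ⟨hk', hl'⟩ := heq (by
    rcases Homocyclic.relIndex_eq hM hmax hn iso hD1 with h | h <;> rw [h] <;> norm_num)
  rw [hcard] at hk'
  rcases Homocyclic.relIndex_eq hM hmax hn iso hD1 with h | h <;> rw [h] at hk' hl'
  · left
    refine ⟨hl', ?_⟩
    have := Nat.one_le_pow m 4 (by norm_num)
    omega
  · right
    refine ⟨hl', ?_⟩
    have h3 : 3 ∣ 4 ^ m - 1 := by simpa using Nat.sub_one_dvd_pow_sub_one 4 m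
    have := Nat.one_le_pow m 4 (by norm_num)
    omega

end Cfsg.Agent.BlkChar.FreeAbelian.HomocyclicCounts
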