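import Cfsg.Agent.Lib.SmallGroups.SelfCent.Gram
import Mathlib.Tactic.IntervalCases

/-!
# Vectors with Gram matrix `1 + e`: the numbers of indices
-/

set_option autoImplicit false

namespace Cfsg.Agent.BlkChar.FreeAbelian

open SmallGroups.SelfCent

theorem four_le (a : ℤ) (h : 1 ≤ a * a) (h1 : a * a ≠ 1) : 4 ≤ a * a := by
  rcases le_or_gt a (-2) with h' | h'
  · nlinarith
  rcases le_or_gt 2 a with h'' | h''
  · nlinarith
  · interval_cases a <;> simp_all

variable {α O : Type*} [Fintype α] [DecidableEq α] [Fintype O] [DecidableEq O] [Nonempty O]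

/-- With no exceptional shift and `e ≤ 3` the remaining indices carry signs. -/
theorem eq_of_zero (S : Finset α) (v : O → α → ℤ) (e l : ℕ) (hoff : ∀ i x, x ∉ S → v i x = 0)
    (hne : ∀ x ∈ S, ∃ i, v i x ≠ 0) (hl : S.card = l + Fintype.card O) (hl0 : 0 < l) (he3 : e ≤ 3)
    (ε : ℤ) (hε : ε = 1 ∨ ε = -1) (f : O → α) (hf : Function.Injective f) (c : α → ℤ)
    (hv : ∀ i x, v i x = c x + if x = f i then ε else 0) (hfd : ∀ i, c (f i) = 0)
    (hnorm : ∑ x, c x * c x = e) : l = e := by
  obtain ⟨i₀⟩ : Nonempty O := inferInstance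
  set F := Finset.univ.image f with hF
  have hFS : F ⊆ S := fun x hx => by
    obtain ⟨i, -, rfl⟩ := Finset.mem_image.mp hx
    by_contra hi
    have h := hoff i (f i) hi
    rw [hv, hfd, if_pos rfl, zero_add] at h
    omega
  have hvc : ∀ x, x ∉ F → ∀ i, v i x = c x := fun x hxF i => by
    rw [hv, if_neg (fun h => hxF (by rw [h]; exact Finset.mem_image_of_mem f (Finset.mem_univ i))),
      add_zero]
  have hRl : (S \ F).card = l := by
    have h1 := Finset.card_sdiff_add_card_eq_card hFS
    rw [hF, Finset.card_image_of_injective _ hf, Finset.card_univ, ← hF] at h1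
    omega
  have hsum : ∑ x ∈ S \ F, c x * c x = e := by
    rw [← hnorm]
    refine Finset.sum_subset (Finset.subset_univ _) fun x _ hx => ?_
    rw [Finset.mem_sdiff] at hx
    by_cases hxF : x ∈ F
    · obtain ⟨i, -, rfl⟩ := Finset.mem_image.mp hxF
      rw [hfd, zero_mul]
    · rw [← hvc x hxF i₀, hoff i₀ x (fun h => hx ⟨h, hxF⟩), zero_mul]
  have hc : ∀ x ∈ S \ F, 1 ≤ c x * c x := by
    intro x hx
    obtain ⟨hxS, hxF⟩ := Finset.mem_sdiff.mp hx
    obtain ⟨i, hi⟩ := hne x hxS
    rw [hvc x hxF i] at hi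
    exact mul_self_pos.mpr hi
  have hle : ((S \ F).card : ℤ) ≤ e := by
    rw [← hsum]
    simpa using Finset.card_nsmul_le_sum (S \ F) (fun x => c x * c x) 1 hc
  by_contra hne'
  have h3 : ∀ x ∈ S \ F, c x * c x = 1 := by
    intro x hx
    by_contra hx1
    have h4 := four_le (c x) (hc x hx) hx1
    have h6 := Finset.single_le_sum (f := fun z => c z * c z)
      (fun z _ => mul_self_nonneg _) hx
    have h7 : c x * c x ≤ e := hsum ▸ h6
    omega
  rw [Finset.sum_congr rfl h3] at hsum
  simp at hsum
  omega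

/-- Vectors with Gram matrix `1 + e` covering `S` bound it by `e + n`; for `e ≤ 3` the bound is
attained unless `3 ≤ n ≤ e + 1`. -/
theorem lattice_count (S : Finset α) (w : α → ℤ) (hw : ∀ x, 0 < w x) (v : O → α → ℤ) (e l : ℕ)
    (he : 0 < e) (hgram : ∀ i j, ∑ x, v i x * v j x = (if i = j then 1 else 0) + (e : ℤ))
    (hdeg : ∀ i, ∑ x, w x * v i x = 0) (hoff : ∀ i x, x ∉ S → v i x = 0)
    (hne : ∀ x ∈ S, ∃ i, v i x ≠ 0) (hl : S.card = l + Fintype.card O) (hl0 : 0 < l) :
    l ≤ e ∧ (e ≤ 3 → l = e ∨ (3 ≤ Fintype.card O ∧ Fintype.card O ≤ e + 1)) := by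
  rcases subsingleton_or_nontrivial O with hO | hO
  · obtain ⟨i₀⟩ : Nonempty O := inferInstance
    have hr : Fintype.card O = 1 := Fintype.card_eq_one_iff.mpr ⟨i₀, fun j => Subsingleton.elim _ _⟩
    have h1 : ∀ x ∈ S, 1 ≤ v i₀ x * v i₀ x := fun x hx => by
      obtain ⟨i, hi⟩ := hne x hx
      rw [Subsingleton.elim i i₀] at hi
      exact mul_self_pos.mpr hi
    have hsum : ∑ x ∈ S, v i₀ x * v i₀ x = 1 + (e : ℤ) := by
      rw [Finset.sum_subset (Finset.subset_univ _) fun x _ hx => by rw [hoff i₀ x hx, zero_mul],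
        hgram, if_pos rfl]
    have h2 : (S.card : ℤ) ≤ 1 + e := by
      rw [← hsum]
      simpa using Finset.card_nsmul_le_sum S (fun x => v i₀ x * v i₀ x) 1 h1
    refine ⟨by omega, fun he3 => Or.inl ?_⟩
    by_contra hne'
    have hle : (S.card : ℤ) ≤ e := by omega
    have h2S : 2 ≤ S.card := by omega
    have h3 : ∀ x ∈ S, v i₀ x * v i₀ x ≠ 1 → False := by
      intro x hx hx1
      have h4 := four_le (v i₀ x) (h1 x hx) hx1
      obtain ⟨y, hy, hyx⟩ := Finset.exists_mem_ne (s := S) (by omega) x
      have h6 : v i₀ x * v i₀ x + v i₀ y * v i₀ y ≤ 1 + e := by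
        rw [← hsum, ← Finset.sum_pair (f := fun z => v i₀ z * v i₀ z) hyx.symm]
        exact Finset.sum_le_sum_of_subset_of_nonneg
          (Finset.insert_subset hx (Finset.singleton_subset_iff.mpr hy))
          fun z _ _ => mul_self_nonneg _
      have := h1 y hy
      omega
    have hall : ∑ x ∈ S, v i₀ x * v i₀ x = S.card := by
      rw [Finset.sum_congr rfl fun x hx => not_not.mp (h3 x hx)]
      simp
    omega
  · obtain ⟨ε, f, c, d, b, hε, hf, hv, hfd, -, hnorm, -⟩ :=
      exists_exceptional w hw v (e : ℤ) hgram hdeg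
    set n := Fintype.card O
    set F := Finset.univ.image f with hF
    have hFcard : F.card = n := by rw [hF, Finset.card_image_of_injective _ hf, Finset.card_univ]
    have hn2 : 2 ≤ n := Fintype.one_lt_card
    have hvc : ∀ x, x ∉ F → ∀ i, v i x = c x := fun x hxF i => by
      rw [hv, if_neg (fun h => hxF (by rw [h]; exact Finset.mem_image_of_mem f (Finset.mem_univ i))),
        add_zero]
    have hc : ∀ x ∈ S \ F, 1 ≤ c x * c x := by
      intro x hx
      obtain ⟨hxS, hxF⟩ := Finset.mem_sdiff.mp hx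
      obtain ⟨i, hi⟩ := hne x hxS
      rw [hvc x hxF i] at hi
      exact mul_self_pos.mpr hi
    have hsumF : ∑ x ∈ F, c x * c x = (n : ℤ) * (d * d) := by
      rw [hF, Finset.sum_image (fun a _ b _ h => hf h), Finset.sum_congr rfl fun i _ => by
        rw [hfd], Finset.sum_const, Finset.card_univ, nsmul_eq_mul]
    have hsplit : ∑ x ∈ S \ F, c x * c x + (n : ℤ) * (d * d) ≤ ∑ x, c x * c x := by
      rw [← hsumF, ← Finset.sum_union (Finset.sdiff_disjoint)]
      exact Finset.sum_le_univ_sum_of_nonneg fun x => mul_self_nonneg _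
    have hcard1 : ((S \ F).card : ℤ) ≤ ∑ x ∈ S \ F, c x * c x := by
      simpa using Finset.card_nsmul_le_sum (S \ F) (fun x => c x * c x) 1 hc
    obtain ⟨z, hz⟩ : ∃ z, z = ε * d := ⟨_, rfl⟩
    have hzz : d * d = z * z := by
      rw [hz]; rcases hε with rfl | rfl <;> ring
    have hn2' : (2 : ℤ) ≤ n := by exact_mod_cast hn2
    have hnn : 0 ≤ (n : ℤ) * (z * z) + 2 * z := by
      have h4 : 0 ≤ z * z + z := by
        rcases le_or_gt 0 z with h | h <;> nlinarith
      nlinarith [mul_self_nonneg z]
    have hmain : ((S \ F).card : ℤ) + ((n : ℤ) * (z * z) + 2 * z) ≤ e := by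
      rw [← hzz, hz]; linarith
    have hSF : S.card ≤ (S \ F).card + n := by
      rw [← Finset.card_sdiff_add_card_inter S F, ← hFcard]
      exact Nat.add_le_add_left (Finset.card_le_card Finset.inter_subset_right) _
    have hlR : l ≤ (S \ F).card := by omega
    refine ⟨by omega, fun he3 => ?_⟩
    have hzR : z = 0 ∨ z = -1 := by
      by_contra h
      have h' : 1 ≤ z ∨ z ≤ -2 := by omega
      have h1 : (1 : ℤ) ≤ (S \ F).card := by exact_mod_cast hl0.trans_le hlR
      have h2 : (3 : ℤ) ≤ (n : ℤ) * (z * z) + 2 * z := by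
        rcases h' with h' | h' <;> nlinarith
      omega
    rcases hzR with rfl | rfl
    · have hd0 : d = 0 := by
        rcases hε with rfl | rfl <;> omega
      subst hd0
      exact Or.inl (eq_of_zero S v e l hoff hne hl hl0 he3 ε hε f hf c hv hfd (by linarith))
    · rcases eq_or_lt_of_le hn2 with h | h
      · -- two exceptional indices: exchange them
        left
        obtain ⟨a, a', haa, huniv⟩ := Finset.card_eq_two.mp
          (show (Finset.univ : Finset O).card = 2 by rw [Finset.card_univ]; omega)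
        have hmem : ∀ i : O, i = a ∨ i = a' := fun i => by
          simpa [huniv] using Finset.mem_univ i
        have hd : d = -ε := by rcases hε with rfl | rfl <;> omega
        refine eq_of_zero S v e l hoff hne hl hl0 he3 (-ε) (by omega) (f ∘ Equiv.swap a a')
          (hf.comp (Equiv.injective _)) (fun x => if x ∈ F then 0 else c x) (fun i x => ?_)
          (fun i => if_pos (Finset.mem_image_of_mem f (Finset.mem_univ _))) ?_
        · rw [hv]
          by_cases hxF : x ∈ F
          · obtain ⟨j, -, rfl⟩ := Finset.mem_image.mp hxF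
            rcases hmem i with rfl | rfl <;> rcases hmem j with rfl | rfl <;>
              simp [hxF, hfd, hf.eq_iff, haa, haa.symm, hd]
          · have h1 : ∀ j, x ≠ f j := fun j hj =>
              hxF (hj ▸ Finset.mem_image_of_mem f (Finset.mem_univ j))
            simp [hxF, h1]
        · have h3 : ∑ x, c x * c x = ∑ x, (if x ∈ F then 0 else c x) * (if x ∈ F then 0 else c x) +
              ∑ x ∈ F, c x * c x := by
            rw [← Finset.sum_filter_add_sum_filter_not Finset.univ (· ∈ F) (fun x => c x * c x),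
              add_comm]
            congr 1
            · rw [Finset.sum_filter]
              exact Finset.sum_congr rfl fun x _ => by split_ifs <;> simp
            · exact Finset.sum_congr (by ext; simp) fun _ _ => rfl
          rw [h3, hsumF, hzz, show (n : ℤ) = 2 by omega] at hnorm
          linarith
      · have h1 : (1 : ℤ) ≤ (S \ F).card := by exact_mod_cast hl0.trans_le hlR
        have h2 : (l : ℤ) ≤ (S \ F).card := by exact_mod_cast hlR
        by_cases hle : l = e
        · exact Or.inl hle
        exact Or.inr ⟨h, by push_cast at hmain ⊢; omega⟩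

end Cfsg.Agent.BlkChar.FreeAbelian
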