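import Cfsg.Agent.BlkChar.FreeAbelian.Point
import Cfsg.Agent.BlkChar.FreeAbelian.Column

/-!
# The traces of a point at the local blocks

For `⊥ ≠ Q ≤ P` the traces of the Brauer image of the point on the characters of `C(Q)` are
characters of `P` with values `m(Q ⊔ ⟨v⟩)` times a number of absolute value one; this makes the
numbers `m(R)` prime to `p`.
-/

set_option autoImplicit false
set_option linter.unusedSectionVars false
set_option linter.style.haveILetI false

namespace Cfsg.Agent.BlkChar.FreeAbelian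

open BlocksCore BC85 BC85.Star
open BlocksDefect hiding red Res charP_res red_mul red_sum red_eq_zero red_natCast red_of_mem
open scoped Classical ComplexConjugate

universe u

variable {G : Type u} [Group G] [Fintype G] {p : ℕ} [Fact p.Prime] {M : Ideal AlgInt}
  [hP : M.IsPrime]

local notation "C[" Q "]" => Subgroup.centralizer (Q : Set G)
local notation "𝕜" => BC85.Star.Res M

variable (p) in
/-- A lift of the Brauer image of the point at `R` with constant trace `m` on the block below. -/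
structure IsDatum (P : Subgroup G) (c : Set (IrrCharacter (Subgroup.centralizer (P : Set G))))
    (ε : KG M G) (R : Subgroup G) (f : Set (IrrCharacter (Subgroup.centralizer (R : Set G))))
    (F : OG M (Subgroup.centralizer (R : Set G))) (m : ℕ) : Prop where
  below : SubpairLE p M R f P c
  idem : IsIdempotentElem F
  incl_red : incl (BC85.Star.Res M) _ (red M _ F) = br R ε
  mul_block : red M _ F * emb M (blockCoeff f) = red M _ F
  on : ∀ θ ∈ f, ntr F θ = m
  off : ∀ θ, θ ∉ f → ntr F θ = 0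

variable (p) in
/-- The trace of the point at `R`. -/
noncomputable def mOf (P : Subgroup G) (c : Set (IrrCharacter (Subgroup.centralizer (P : Set G))))
    (ε : KG M G) (R : Subgroup G) : ℕ :=
  if h : ∃ (m : ℕ) (f : Set (IrrCharacter (Subgroup.centralizer (R : Set G))))
      (F : OG M (Subgroup.centralizer (R : Set G))), IsDatum p P c ε R f F m
  then h.choose else 0

variable {B : Set (IrrCharacter G)} {P : Subgroup G}
  {c : Set (IrrCharacter (Subgroup.centralizer (P : Set G)))}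
  (hM : IsPModular p M) (hmax : IsMaximalBrauerPair p M B P c)
  (hab : ∀ x ∈ P, ∀ y ∈ P, x * y = y * x)
  (hfree : ∀ g : G, g ∈ stabT P c → ∀ x : G, x ∈ P → x ≠ 1 → g * x * g⁻¹ = x →
    g ∈ Subgroup.centralizer ((P : Subgroup G) : Set G))
  {ε : KG M G} (hε : IsPoint P c ε)

include hM hmax hab hfree hε

theorem exists_isDatum {R : Subgroup G} (hR : R ≤ P) (hR1 : R ≠ ⊥) :
    ∃ f F, IsDatum p P c ε R f F (mOf p P c ε R) := by
  have h : ∃ (m : ℕ) (f : Set (IrrCharacter C[R])) (F : OG M C[R]),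
      IsDatum p P c ε R f F m := by
    obtain ⟨f, hf⟩ := exists_below hM hmax.1.1 hR
    have hfb := (subpairLE_isBrauerPair hf hmax.1.1)
    obtain ⟨F, hF, hFr, hFf, hFoff⟩ := exists_datum hM hfb.1 hε.prim.idem
      (hε.prim.fixd.mono (SetLike.coe_subset_coe.mpr hR)) hfb.2 (hε.below hM hmax hf)
    obtain ⟨-, -, -, hreg⟩ := local_block hM hmax hab hfree hR hR1 hf
    obtain ⟨θ, hθ⟩ := isPBlock_nonempty hfb.2
    obtain ⟨m, hm⟩ := exists_ntr_nat hF θ
    exact ⟨m, f, F, hf, hF, hFr, hFf,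
      fun θ' h' => (ntr_eq_of_regular hM hF (hreg θ' h' θ hθ)).trans hm, hFoff⟩
  rw [mOf, dif_pos h]
  exact h.choose_spec

/-- The traces at a subgroup. -/
theorem local_pre {Q : Subgroup G} (hQ : Q ≤ P) (hQ1 : Q ≠ ⊥) :
    ∃ (fQ : Finset (IrrCharacter C[Q])) (δ d : IrrCharacter C[Q] → P → ℂ),
      fQ.card = Nat.card P ∧ fQ.Nonempty ∧
      (∀ η, IsCharacter P (δ η)) ∧
      (∀ η v, δ η v = (mOf p P c ε (Q ⊔ Subgroup.zpowers (v : G)) : ℂ) * d η v) ∧
      (∀ η v, IsIntegral ℤ (d η v)) ∧ (∀ η ∈ fQ, δ η 1 = mOf p P c ε Q) ∧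
      (∀ η ∈ fQ, ∀ v, d η v ≠ 0) ∧
      ∀ v : P, ∑ η ∈ fQ, δ η v * conj (δ η v) =
        (Nat.card P : ℂ) * (mOf p P c ε (Q ⊔ Subgroup.zpowers (v : G)) : ℂ) ^ 2 := by
  have := charP_res (M := M) hM
  have hPp := hmax.1.1.1
  have hQp : IsPGroup p Q := hPp.to_le hQ
  have hPH : P ≤ C[Q] := fun v hv =>
    Subgroup.mem_centralizer_iff.mpr fun q hq => hab q (hQ hq) v hv
  obtain ⟨fQ, FQ, hQd⟩ := exists_isDatum hM hmax hab hfree hε hQ hQ1
  have hfQ := (subpairLE_isBrauerPair hQd.below hmax.1.1).2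
  obtain ⟨hnil, hdefQ, hcardQ, -⟩ := local_block hM hmax hab hfree hQ hQ1 hQd.below
  set eQ : KG M C[Q] := red M C[Q] FQ with heQ
  have heQi : IsIdempotentElem eQ := hQd.idem.map _
  have hfixQ : Fixd (P : Set G) (br Q ε) :=
    hε.prim.fixd.br fun v hv => Subgroup.centralizer_le_normalizer _ (hPH hv)
  set P' : Subgroup C[Q] := P.subgroupOf C[Q] with hP'
  have hP'p : IsPGroup p P' := isPGroup_subgroupOf hPp _
  have heQf : Fixd (P' : Set C[Q]) eQ := fixd_of_incl _ fun s hs => by
    rw [hQd.incl_red]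
    exact hfixQ _ hs
  -- the maximal pair in `C(Q)`
  obtain ⟨⟨P₁, c'⟩, hc', hlift⟩ := exists_exactUnlift hM (⟨P, c⟩ : BrauerPairIdx G)
    (centralizer_anti hQ) hPH hmax.1.1.2
  obtain rfl : P₁ = P' := by
    have h1 : P = P₁.map (C[Q]).subtype := hlift.2
    rw [hP', h1, Subgroup.subgroupOf,
      Subgroup.comap_map_eq_self_of_injective (Subgroup.subtype_injective _)]
  obtain ⟨-, -, -, -, -, hsub⟩ := (isNormalSubpair_iff hM).mp
    (normalSubpair_of_below hM hmax.1.1 hQd.below
      (hPH.trans (BlocksCore.centralizer_le_normalizer' Q)))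
  have hpair : IsBrauerPairOf p M fQ P' c' :=
    (isBrauerPairOf_iff hM).mpr ⟨⟨hP'p, hc'⟩, hfQ,
      (hlift.1.subset_cset_iff fun x => bp_apply_coe Q fQ x).mp hsub⟩
  have hmax' : IsMaximalBrauerPair p M fQ P' c' := isMaximal_of_defect hM hdefQ hpair
  have hbkc : incl 𝕜 C[Q] (bk M (⟨P', c'⟩ : BrauerPairIdx C[Q])) =
      bk M (⟨P, c⟩ : BrauerPairIdx G) :=
    incl_emb _ (bp_mem hM (mk_mem_pairsAt hc')) hlift.1.coeff
      fun g hg => bp_of_notMem P c fun h => hg (hlift.1.centLe h)
  -- a primitive component of `eQ` with Brauer image in `c'`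
  obtain ⟨n, j, hj, -, hs⟩ := exists_prim_decomposition (P' : Set C[Q]) eQ heQi heQf
  have hcP : ∀ h : C[Q], (h : G) ∈ C[P] ↔ h ∈ Subgroup.centralizer (P' : Set C[Q]) := fun h =>
    (mem_centralizer_subgroupOf hPH h).symm
  obtain ⟨l, -, hl⟩ : ∃ l ∈ Finset.univ, br P' (j l) * bk M (⟨P', c'⟩ : BrauerPairIdx C[Q]) ≠ 0 := by
    refine Finset.exists_ne_zero_of_sum_ne_zero ?_
    rw [← Finset.sum_mul, ← br_sum, hs]
    intro h
    apply hε.ne
    have h1 := congrArg (incl 𝕜 C[Q]) h
    rwa [map_mul, incl_br P' P (centralizer_anti hQ) hcP, hQd.incl_red, br_mono hQ, hbkc, hε.blk,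
      map_zero] at h1
  have ha' : (⟨P', c'⟩ : BrauerPairIdx C[Q]) ∈ pairsAt M P' := mk_mem_pairsAt hc'
  have hjb : br P' (j l) * bk M (⟨P', c'⟩ : BrauerPairIdx C[Q]) = br P' (j l) := by
    have hcomm : Commute (br P' (j l)) (br P' (bk M (⟨P', c'⟩ : BrauerPairIdx C[Q]))) :=
      (br_bk ha').symm ▸ (commute_bk_br ha' (j l)).symm
    have hdich := prim_br_dichotomy hP'p (hj l).1 (bk_idem hM ha') (fixd_bk ha') hcomm
    rw [br_bk ha'] at hdich
    exact hdich.resolve_left hl
  have hjne : br P' (j l) ≠ 0 := fun h => hl (by rw [h, zero_mul])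
  choose n₁ ρ hρirr hρ using fun η : IrrCharacter C[Q] => η.2
  let inH : P →* C[Q] := Subgroup.inclusion hPH
  set δ : IrrCharacter C[Q] → P → ℂ := fun η v => val (ρ η) (inH v) eQ with hδ
  -- the pieces at each element
  have hpt : ∀ v : P, ∃ dd : IrrCharacter C[Q] → ℂ,
      (∀ η, δ η v = (mOf p P c ε (Q ⊔ Subgroup.zpowers (v : G)) : ℂ) * dd η) ∧
      (∀ η, IsIntegral ℤ (dd η)) ∧ (∀ η ∈ fQ, dd η ≠ 0) ∧
      ∑ η : IrrCharacter C[Q], δ η v * conj (δ η v) =
        (Nat.card P : ℂ) * (mOf p P c ε (Q ⊔ Subgroup.zpowers (v : G)) : ℂ) ^ 2 := by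
    intro v
    set R := Q ⊔ Subgroup.zpowers (v : G) with hR
    have hRP : R ≤ P := sup_le hQ (Subgroup.zpowers_le.mpr v.2)
    have hR1 : R ≠ ⊥ := fun h => hQ1 (le_bot_iff.mp (h ▸ le_sup_left))
    obtain ⟨fR, FR, hRd⟩ := exists_isDatum hM hmax hab hfree hε hRP hR1
    have hfR := (subpairLE_isBrauerPair hRd.below hmax.1.1).2
    obtain ⟨-, -, hcardR, hregR⟩ := local_block hM hmax hab hfree hRP hR1 hRd.below
    have hle : C[R] ≤ C[Q] := centralizer_anti le_sup_left
    set φ : C[R] →* C[Q] := Subgroup.inclusion hle with hφ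
    have hφi : Function.Injective φ := Subgroup.inclusion_injective hle
    have hvR : (v : G) ∈ R := Subgroup.mem_sup_right (Subgroup.mem_zpowers _)
    have hvCR : (v : G) ∈ C[R] :=
      Subgroup.mem_centralizer_iff.mpr fun q hq => hab q (hRP hq) v v.2
    set v0 : C[R] := ⟨v, hvCR⟩ with hv0
    have hv0c : v0 ∈ Subgroup.center C[R] := Subgroup.mem_center_iff.mpr fun y =>
      Subtype.ext (Subgroup.mem_centralizer_iff.mp y.2 v hvR).symm
    have hφv : φ v0 = inH v := rfl
    have hord : ∃ n : ℕ, orderOf (φ v0) = p ^ n := by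
      obtain ⟨k, hk⟩ := orderOf_pow_of_mem hPp v.2
      exact ⟨k, by rw [← hk, ← Subgroup.orderOf_coe]; rfl⟩
    have hc : ∀ h : C[Q], (h : G) ∈ C[R] ↔
        h ∈ Subgroup.centralizer ((Subgroup.zpowers (φ v0) : Subgroup C[Q]) : Set C[Q]) := by
      intro h
      rw [centralizer_zpowers, Subgroup.mem_centralizer_singleton_iff]
      constructor
      · intro hh
        exact Subtype.ext (Subgroup.mem_centralizer_iff.mp hh v hvR).symm
      · intro hh
        have hh' : (h : G) * v = v * h := congrArg Subtype.val hh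
        have hle' : R ≤ Subgroup.centralizer ({(h : G)} : Set G) :=
          sup_le (fun q hq => Subgroup.mem_centralizer_singleton_iff.mpr
            (Subgroup.mem_centralizer_iff.mp h.2 q hq))
            (Subgroup.zpowers_le.mpr (Subgroup.mem_centralizer_singleton_iff.mpr hh'.symm))
        exact Subgroup.mem_centralizer_iff.mpr fun q hq =>
          Subgroup.mem_centralizer_singleton_iff.mp (hle' hq)
    have hrange : ∀ h : C[Q], h ∈ Subgroup.centralizer ({φ v0} : Set C[Q]) → h ∈ φ.range := by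
      intro h hh
      exact ⟨⟨h, (hc h).mpr (by rwa [centralizer_zpowers])⟩, rfl⟩
    have hfixv : Fixd {φ v0} eQ := heQf.mono (Set.singleton_subset_iff.mpr v.2)
    have hred : MonoidAlgebra.mapDomainRingHom 𝕜 φ (red M C[R] FR) =
        br (Subgroup.zpowers (φ v0)) eQ := incl_injective C[Q] (by
      rw [incl_inclusion, incl_br _ R hle hc, hQd.incl_red, br_mono le_sup_left, hRd.incl_red])
    have hval : ∀ η : IrrCharacter C[Q],
        δ η v = ∑ k, coefC FR k * (η : C[Q] → ℂ) (φ (v0 * k)) := by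
      intro η
      rw [hδ, ← hρ η]
      exact val_eq_sum hM (ρ η) φ hv0c hord heQi hfixv hRd.idem hred
    refine ⟨dOf φ v0 fR, fun η => ?_, isIntegral_dOf φ hv0c fR, fun η hη => ?_, ?_⟩
    · rw [hval, sum_coefC_eq_mul φ hv0c η FR hRd.on hRd.off]
    · -- the projection does not vanish
      set Z : Subgroup C[Q] := Subgroup.zpowers (φ v0) with hZ
      have hZP : Z ≤ P' := Subgroup.zpowers_le.mpr v.2
      have hZp : IsPGroup p Z := hP'p.to_le hZP
      obtain ⟨f', hf'⟩ := exists_below hM hmax'.1.1 hZP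
      have hf'b := (subpairLE_isBrauerPair hf' hmax'.1.1).2
      obtain ⟨f'', hf''b, hl''⟩ := exists_lift hM (⟨Z, f'⟩ : BrauerPairIdx C[Q]) R hle hc hf'b
      have hbkl : incl 𝕜 C[Q] (bk M (⟨Z, f'⟩ : BrauerPairIdx C[Q])) =
          bk M (⟨R, f''⟩ : BrauerPairIdx G) :=
        incl_emb _ (bp_mem hM (mk_mem_pairsAt hf'b)) hl''.coeff
          fun g hg => bp_of_notMem R f'' fun h => hg (hle h)
      have hfj : Fixd (Z : Set C[Q]) (j l) := (hj l).1.fixd.mono (SetLike.coe_subset_coe.mpr hZP)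
      set x := incl 𝕜 C[Q] (br Z (j l)) with hx
      have hx0 : x ≠ 0 := fun h => hjne (by
        have h2 : br Z (j l) = 0 := incl_injective C[Q] (h.trans (map_zero _).symm)
        rw [← br_mono hZP, h2, br_zero])
      have hx1 : x * bk M (⟨R, f''⟩ : BrauerPairIdx G) = x := by
        rw [hx, ← hbkl, ← map_mul,
          br_mul_bk_below hM hmax'.1.1 (hj l).1 hjne hjb (Nat.card P') Z (Nat.le_add_left _ _) f' hf']
      have hxe : x * br R ε = x := by
        conv_rhs => rw [hx, ← (hj l).2.2]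
        rw [br_mul hZp hfj (heQf.mono (SetLike.coe_subset_coe.mpr hZP)), map_mul,
          incl_br Z R hle hc eQ, hQd.incl_red, br_mono le_sup_left]
      have hx2 : x * bk M (⟨R, fR⟩ : BrauerPairIdx G) = x := by
        conv_lhs => rw [← hxe, mul_assoc, hε.below hM hmax hRd.below]
        exact hxe
      obtain rfl : f'' = fR := by
        by_contra hne
        apply hx0
        rw [← hx2, ← hx1, mul_assoc, bk_orth hM (mk_mem_pairsAt hf''b) (mk_mem_pairsAt hfR)
          (fun h => hne (eq_of_heq (Sigma.mk.inj_iff.mp h).2)), mul_zero]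
      have hvC : ((⟨φ v0, v.2⟩ : P') : C[Q]) ∈ Subgroup.centralizer (P' : Set C[Q]) :=
        (hcP _).mp (Subgroup.mem_centralizer_iff.mpr fun q hq => hab q hq v v.2)
      obtain ⟨s, hs, hsreg, hne⟩ :=
        exists_proj_ne_zero_of_central hM hmax' hη (⟨φ v0, v.2⟩ : P') hvC hf'
      obtain ⟨s', rfl⟩ := hrange s hs
      obtain ⟨θ, hθ⟩ := isPBlock_nonempty hf''b
      have hs' : ¬ p ∣ orderOf s' := by rwa [orderOf_injective φ hφi] at hsreg
      have hp := proj_eq_dOf φ hφi hv0c (a := (⟨Z, f'⟩ : BrauerPairIdx C[Q])) (f := f'')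
        (fun k => (hl''.coeff (φ k)).symm.trans (bp_apply_coe R f'' k))
        (fun h hh => bp_of_notMem Z f' fun h' => hh ⟨⟨h, (hc h).mpr h'⟩, rfl⟩)
        (fun θ' h' => hregR θ' h' θ hθ) η hs'
      intro h0
      rw [h0, zero_mul] at hp
      exact hne hp
    · simp only [hval]
      rw [col_same hM φ hφi hv0c hord hrange hRd.idem hRd.idem,
        ← Finset.sum_subset (Finset.subset_univ (Finset.univ.filter (· ∈ fR))) (fun θ _ hθ => by
          rw [hRd.off θ (by simpa using hθ), zero_mul]),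
        Finset.sum_congr rfl (g := fun _ => (mOf p P c ε R : ℂ) * (mOf p P c ε R : ℂ)) fun θ hθ => by
          rw [hRd.on θ (Finset.mem_filter.mp hθ).2, map_natCast],
        Finset.sum_const, nsmul_eq_mul, pow_two]
      congr 2
      rw [← hcardR, Nat.card_eq_fintype_card, Fintype.card_subtype]
  choose dd hdd hint hne hsum using hpt
  have hfin : (Finset.univ.filter (· ∈ fQ)).card = Nat.card P := by
    rw [← hcardQ, Nat.card_eq_fintype_card, Fintype.card_subtype]
  refine ⟨Finset.univ.filter (· ∈ fQ), δ, fun η v => dd v η, hfin, ?_, fun η => ?_,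
    fun η v => hdd v η, fun η v => hint v η, fun η hη => ?_,
    fun η hη v => hne v η (Finset.mem_filter.mp hη).2, fun v => ?_⟩
  · exact Finset.card_pos.mp (by rw [hfin]; exact Nat.card_pos)
  · exact CharCore.isCharacter_comp (isCharacter_val (ρ η) hM heQi heQf)
      (Subgroup.subgroupOfEquivOfLe hPH).symm.toMonoidHom
  · rw [← hQd.on η (Finset.mem_filter.mp hη).2]
    show val (ρ η) (inH 1) eQ = _
    rw [map_one, val_eq (ρ η) hQd.idem (fun u hu => by rw [Set.mem_singleton_iff.mp hu, cj_one])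
      rfl, map_one, one_mul, tau_eq_sum, ntr, hρ η]
  · refine Eq.trans (Finset.sum_subset (Finset.subset_univ _) fun η _ hη => ?_) (hsum v)
    have hη' : η ∉ fQ := by simpa using hη
    have h0 : δ η v = 0 := val_eq_zero_of_notMem hM hfQ hη' (ρ η) (hρ η).symm heQi
      (heQf.mono (Set.singleton_subset_iff.mpr v.2)) hQd.mul_block
    rw [h0, zero_mul]

end Cfsg.Agent.BlkChar.FreeAbelian
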