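import Cfsg.Agent.BlkChar.FreeAbelian.Simple
import Cfsg.Agent.BlkChar.AbelianSubsection
import Cfsg.Agent.BC85.Star.Focal

/-!
# A primitive idempotent at a maximal pair

For a maximal pair `(P, c)` with abelian `P` and free inertial action: a primitive idempotent with
Brauer image in `c` has traces prime to `p` at `P` and is unchanged by the stabilizer of the pair.
-/

set_option autoImplicit false
set_option linter.unusedSectionVars false
set_option linter.style.haveILetI false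

namespace Cfsg.Agent.BlkChar.FreeAbelian

open BlocksCore BC85 BC85.Star
open BlocksDefect hiding red Res charP_res red_mul red_sum red_eq_zero red_natCast red_of_mem
open scoped Classical ComplexConjugate

universe u

variable {G : Type u} [Group G] [Fintype G] {p : ℕ} [Fact p.Prime] {M : Ideal AlgInt}
  [hP : M.IsPrime]

local notation "C[" Q "]" => Subgroup.centralizer (Q : Set G)
local notation "𝕜" => BC85.Star.Res M

theorem emb_blockCoeff_ne_zero {K : Type u} [Group K] [Fintype K] (hM : IsPModular p M)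
    {f : Set (IrrCharacter K)} (hf : IsPBlock M f) : emb M (blockCoeff f) ≠ 0 := by
  intro h0
  obtain ⟨χ, hχ⟩ := isPBlock_nonempty hf
  have hu : ¬ MemLocalIdeal M (omega (χ : K → ℂ) (blockCoeff f)) := by
    rw [omega_blockCoeff, Set.indicator_of_mem hχ]
    exact not_memLocalIdeal_one
  obtain ⟨g, hg, -⟩ := exists_unit_class hM χ (isIntClassFun_blockCoeff hM hf) hu
  refine hg ?_
  have h1 := congrArg (fun a : KG M K => a.coeff g) h0
  simp only [coeff_emb (isIntClassFun_blockCoeff hM hf).2] at h1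
  rw [BlocksDefect.red_of_mem ((isIntClassFun_blockCoeff hM hf).2 g)] at h1
  exact residue_eq_zero_iff.mp (by simpa using h1)

theorem incl_block (hM : IsPModular p M) {R : Subgroup G} {f : Set (IrrCharacter C[R])}
    (hf : IsPBlock M f) : incl 𝕜 C[R] (emb M (blockCoeff f)) = bk M (⟨R, f⟩ : BrauerPairIdx G) :=
  incl_emb _ (isIntClassFun_blockCoeff hM hf).2 (fun h => bp_apply_coe R f h)
    fun g hg => bp_of_notMem R f hg

/-- A lift of the Brauer image of an idempotent in the block of a pair. -/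
theorem exists_datum (hM : IsPModular p M) {R : Subgroup G} (hR : IsPGroup p R) {e : KG M G}
    (he : IsIdempotentElem e) (hf : Fixd (R : Set G) e) {f : Set (IrrCharacter C[R])}
    (hfb : IsPBlock M f) (hef : br R e * bk M (⟨R, f⟩ : BrauerPairIdx G) = br R e) :
    ∃ F : OG M C[R], IsIdempotentElem F ∧ incl 𝕜 C[R] (red M C[R] F) = br R e ∧
      red M C[R] F * emb M (blockCoeff f) = red M C[R] F ∧
      ∀ θ, θ ∉ f → ntr F θ = 0 := by
  have := charP_res (M := M) hM
  obtain ⟨b, hb⟩ := exists_preimage_br R e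
  have hbi : IsIdempotentElem b := incl_injective _ (by
    rw [map_mul, hb, ← br_mul hR hf hf, he.eq])
  obtain ⟨F, hF, -, hFr⟩ := exists_idem_lift (S := (∅ : Set C[R])) hbi fun u hu => hu.elim
  have hbf : b * emb M (blockCoeff f) = b := incl_injective _ (by
    rw [map_mul, incl_block hM hfb, hb, hef])
  refine ⟨F * bidem M f,
    IsIdempotentElem.mul_of_commute (commute_bidem f F) hF (bidem_idem hM hfb), ?_, ?_,
    fun θ hθ => ntr_mul_bidem hM hfb F hθ⟩
  · rw [map_mul, hFr, red_bidem, hbf, hb]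
  · rw [map_mul, hFr, red_bidem, hbf, hbf]

variable {B : Set (IrrCharacter G)} {P : Subgroup G} {c : Set (IrrCharacter (Subgroup.centralizer (P : Set G)))}

/-- A primitive idempotent with Brauer image in the block of the pair. -/
structure IsPoint (P : Subgroup G)
    (c : Set (IrrCharacter (Subgroup.centralizer (P : Set G)))) (ε : KG M G) : Prop where
  prim : IsPrim (P : Set G) ε
  ne : br P ε ≠ 0
  blk : br P ε * bk M (⟨P, c⟩ : BrauerPairIdx G) = br P ε

theorem exists_point (hM : IsPModular p M) (hc : IsBrauerPair p M P c) :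
    ∃ ε : KG M G, IsPoint P c ε := by
  have := charP_res (M := M) hM
  obtain ⟨n, j, hj, -, hs⟩ := exists_prim_decomposition (P : Set G) (1 : KG M G)
    IsIdempotentElem.one (Fixd.one _)
  set a : BrauerPairIdx G := ⟨P, c⟩
  have ha : a ∈ pairsAt M P := mk_mem_pairsAt hc.2
  have hne : bk M a ≠ 0 := by
    rw [← incl_block hM hc.2]
    exact fun h => emb_blockCoeff_ne_zero hM hc.2 (incl_injective _ (h.trans (map_zero _).symm))
  obtain ⟨l, -, hl⟩ : ∃ l ∈ Finset.univ, br P (j l) * bk M a ≠ 0 := by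
    refine Finset.exists_ne_zero_of_sum_ne_zero ?_
    rw [← Finset.sum_mul, ← br_sum, hs, br_one, one_mul]
    exact hne
  have hcomm : Commute (br P (j l)) (br P (bk M a)) :=
    (br_bk ha).symm ▸ (commute_bk_br ha (j l)).symm
  have hdich := prim_br_dichotomy hc.1 (hj l).1 (bk_idem hM ha) (fixd_bk ha) hcomm
  rw [br_bk ha] at hdich
  exact ⟨j l, (hj l).1, fun h => hl (by rw [h, zero_mul]), hdich.resolve_left hl⟩

variable (hM : IsPModular p M) (hmax : IsMaximalBrauerPair p M B P c)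
  (hab : ∀ x ∈ P, ∀ y ∈ P, x * y = y * x)
  (hfree : ∀ g : G, g ∈ stabT P c → ∀ x : G, x ∈ P → x ≠ 1 → g * x * g⁻¹ = x →
    g ∈ Subgroup.centralizer ((P : Subgroup G) : Set G))

include hM hmax

theorem IsPoint.below {ε : KG M G} (hε : IsPoint P c ε) {R : Subgroup G}
    {f : Set (IrrCharacter C[R])} (hle : SubpairLE p M R f P c) :
    br R ε * bk M (⟨R, f⟩ : BrauerPairIdx G) = br R ε :=
  br_mul_bk_below hM hmax.1.1 hε.prim hε.ne hε.blk (Nat.card P) R (Nat.le_add_left _ _) f hle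

include hab hfree

/-- The local blocks below the pair. -/
theorem local_block {R : Subgroup G} (hR : R ≤ P) (hR1 : R ≠ ⊥)
    {f : Set (IrrCharacter C[R])} (hle : SubpairLE p M R f P c) :
    IsNilpotentBlock p M f ∧ IsDefectGroup p M f (P.subgroupOf C[R]) ∧ Nat.card f = Nat.card P ∧
      ∀ θ ∈ f, ∀ θ' ∈ f, ∀ s : C[R], ¬ p ∣ orderOf s →
        (θ : C[R] → ℂ) s = (θ' : C[R] → ℂ) s := by
  have hPC : P ≤ C[R] := fun v hv =>
    Subgroup.mem_centralizer_iff.mpr fun q hq => hab q (hR hq) v hv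
  have hnil := (free_iff_local_nilpotent hM hmax hab).mp hfree _ hR hR1 f hle
  have hfc := (fullyCentralized_iff hM (isBlockFusionSystemOn_blockFusion hM hmax) hle).mp
    ⟨hR, fun S _ => by
      rw [FusionSystem.centralizerIn, FusionSystem.centralizerIn, inf_eq_left.mpr hPC]
      exact Subgroup.card_le_of_le inf_le_left⟩
  rw [inf_eq_left.mpr hPC] at hfc
  obtain ⟨-, hk, hreg⟩ := rank_one_of_abelian hM hnil hfc fun x hx y hy =>
    Subtype.ext (hab (x : G) hx (y : G) hy)
  refine ⟨hnil, hfc, ?_, fun θ hθ θ' hθ' s hs => ?_⟩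
  · rw [hk, ← defectGroup_natCard hM hnil.1 hfc,
      Nat.card_congr (Subgroup.subgroupOfEquivOfLe hPC).toEquiv]
  · have h := congrFun (hreg θ hθ θ' hθ') s
    rwa [BC85.pRegularPart_pos hs, BC85.pRegularPart_pos hs] at h

variable (hP1 : P ≠ ⊥)
include hP1

omit hfree in
theorem fixd_incl_centralizer (x : KG M C[P]) : Fixd (P : Set G) (incl 𝕜 C[P] x) ∧
    br P (incl 𝕜 C[P] x) = incl 𝕜 C[P] x := by
  have h : br P (incl 𝕜 C[P] x) = incl 𝕜 C[P] x := br_eq_self fun g hg => by
    by_contra hgC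
    rw [coeff_incl, dif_neg hgC] at hg
    exact hg rfl
  exact ⟨h ▸ fixd_br _, h⟩

/-- The trace at the top is prime to `p`. -/
theorem IsPoint.not_dvd {ε : KG M G} (hε : IsPoint P c ε) {F : OG M C[P]}
    (hF : incl 𝕜 C[P] (red M C[P] F) = br P ε) {θ : IrrCharacter C[P]} (hθ : θ ∈ c) {n : ℕ}
    (hn : ntr F θ = n) : ¬ p ∣ n := by
  have := charP_res (M := M) hM
  obtain ⟨-, -, -, hreg⟩ := local_block hM hmax hab hfree le_rfl hP1
    (Relation.ReflTransGen.refl : SubpairLE p M P c P c)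
  have hPp := hmax.1.1.1
  have hfix := hε.prim.fixd
  have hi : IsIdempotentElem (br P ε) := by
    show _ * _ = _
    rw [← br_mul hPp hfix hfix, hε.prim.idem.eq]
  refine not_dvd_of_local hM hmax.1.1.2 hθ (fun θ' h' => hreg θ' h' θ hθ)
    (z₀ := red M C[P] F) (incl_injective _ (by rw [map_mul, hF, hi.eq]))
    (fun h => hε.ne (by rw [← hF, h, map_zero]))
    (incl_injective _ (by rw [map_mul, incl_block hM hmax.1.1.2, hF, hε.blk]))
    (fun x => ?_) rfl hn
  obtain ⟨hxf, hxb⟩ := fixd_incl_centralizer hM hmax hab hP1 x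
  have hz : InCorner (P : Set G) ε (ε * incl 𝕜 C[P] x * ε) := InCorner.mk' hε.prim hxf
  refine ⟨resid ε (ε * incl 𝕜 C[P] x * ε), ?_⟩
  refine (IsNilpotent.map_iff (incl_injective C[P])).mp ?_
  obtain ⟨m, hm⟩ := isNilpotent_sub_resid hε.prim hz
  refine ⟨m, ?_⟩
  have hfd : Fixd (P : Set G) (ε * incl 𝕜 C[P] x * ε - resid ε (ε * incl 𝕜 C[P] x * ε) • ε) :=
    hz.fixd.sub (hfix.smul _)
  have h1 := congrArg (br P) hm
  rw [br_pow hPp hfd, br_zero, br_sub, br_mul hPp (hfix.mul hxf) hfix, br_mul hPp hfix hxf,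
    hxb] at h1
  rw [map_sub, map_mul, map_mul, hF]
  convert h1 using 3
  refine MonoidAlgebra.ext (Finsupp.ext fun g => ?_)
  rw [coeff_br, coeff_incl]
  have hg := congrArg (fun a : KG M G => a.coeff g) hF
  simp only [coeff_incl, coeff_br] at hg
  simp only [MonoidAlgebra.coeff_smul, Finsupp.smul_apply, smul_eq_mul]
  by_cases h : g ∈ C[P]
  · rw [dif_pos h, if_pos h] at hg ⊢
    rw [hg]
  · rw [dif_neg h, if_neg h]

/-- Conjugation by the stabilizer does not change the traces. -/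
theorem IsPoint.val_conj {ε : KG M G} (hε : IsPoint P c ε) {t : G} (ht : t ∈ stabT P c) {u : G}
    (hu : u ∈ P) {V : Type*} [AddCommGroup V] [Module ℂ V] (ρ : Representation ℂ G V) :
    val ρ (t * u * t⁻¹) ε = val ρ u ε := by
  have := charP_res (M := M) hM
  have hPp := hmax.1.1.1
  have htN : t ∈ Subgroup.normalizer (P : Set G) := (mem_stabT_iff.mp ht).1
  have hε' : IsPrim (P : Set G) (cj t ε) := hε.prim.cj htN
  have hb' : br P (cj t ε) = cj t (br P ε) := (cj_br htN ε).symm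
  have hblk' : br P (cj t ε) * bk M (⟨P, c⟩ : BrauerPairIdx G) = br P (cj t ε) := by
    conv_lhs => rw [← conjPair_eq_self_iff.mpr ht, ← cj_bk, hb', ← cj_mul, hε.blk]
    rw [hb']
  have hne' : br P (cj t ε) ≠ 0 := fun h => hε.ne (by
    rw [hb'] at h
    have := congrArg (cj t⁻¹) h
    rwa [cj_cj, inv_mul_cancel, cj_one, cj, mul_zero, zero_mul] at this)
  obtain ⟨-, -, -, hreg⟩ := local_block hM hmax hab hfree le_rfl hP1
    (Relation.ReflTransGen.refl : SubpairLE p M P c P c)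
  obtain ⟨θ, hθ⟩ := isPBlock_nonempty hmax.1.1.2
  obtain ⟨F₀, hF₀, hF₀r, hF₀f, -⟩ :=
    exists_datum hM hPp hε.prim.idem hε.prim.fixd hmax.1.1.2 hε.blk
  obtain ⟨F₁, hF₁, hF₁r, hF₁f, -⟩ := exists_datum hM hPp hε'.idem hε'.fixd hmax.1.1.2 hblk'
  obtain ⟨x, y, hxy⟩ := exists_link hM hmax.1.1.2 hθ (fun θ' h' => hreg θ' h' θ hθ)
    (hF₀.map (red M C[P])) (fun h => hε.ne (by rw [← hF₀r, h, map_zero])) hF₀f
    (hF₁.map (red M C[P])) (fun h => hne' (by rw [← hF₁r, h, map_zero])) hF₁f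
  obtain ⟨hxf, hxb⟩ := fixd_incl_centralizer hM hmax hab hP1 x
  obtain ⟨hyf, hyb⟩ := fixd_incl_centralizer hM hmax hab hP1 y
  set ε' := cj t ε with hεdef
  set x1 := ε * incl 𝕜 C[P] x * ε' with hx1
  set y0 := ε' * incl 𝕜 C[P] y * ε with hy0
  have hx1f : Fixd (P : Set G) x1 := (hε.prim.fixd.mul hxf).mul hε'.fixd
  have hy0f : Fixd (P : Set G) y0 := (hε'.fixd.mul hyf).mul hε.prim.fixd
  have hz : InCorner (P : Set G) ε (x1 * y0) := ⟨hx1f.mul hy0f,
    by simp only [hx1, ← mul_assoc, hε.prim.idem.eq],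
    by simp only [hy0, mul_assoc, hε.prim.idem.eq]⟩
  have hne : resid ε (x1 * y0) ≠ 0 := fun h0 => hxy (by
    obtain ⟨m, hm⟩ := isNilpotent_of_resid_eq_zero hε.prim hz h0
    refine (IsNilpotent.map_iff (incl_injective C[P])).mp ⟨m, ?_⟩
    have h1 := congrArg (br P) hm
    rw [br_pow hPp hz.fixd, br_zero, br_mul hPp hx1f hy0f, hx1, hy0,
      br_mul hPp (hε.prim.fixd.mul hxf) hε'.fixd, br_mul hPp hε.prim.fixd hxf,
      br_mul hPp (hε'.fixd.mul hyf) hε.prim.fixd, br_mul hPp hε'.fixd hyf, hxb, hyb] at h1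
    have hid : br P ε' * br P ε' = br P ε' := by rw [← br_mul hPp hε'.fixd hε'.fixd, hε'.idem.eq]
    rw [show br P ε * incl 𝕜 C[P] x * br P ε' * (br P ε' * incl 𝕜 C[P] y * br P ε) =
      br P ε * incl 𝕜 C[P] x * (br P ε' * br P ε') * incl 𝕜 C[P] y * br P ε by
        simp only [mul_assoc], hid] at h1
    simpa only [map_mul, hF₀r, hF₁r] using h1)
  obtain ⟨w, hw, hzw, -⟩ := exists_inverse hε.prim hz hne
  set y1 := y0 * w with hy1
  have hy1f : Fixd (P : Set G) y1 := hy0f.mul hw.fixd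
  have hxy1 : x1 * y1 = ε := by rw [hy1, ← mul_assoc, hzw]
  have hl : ε' * y1 = y1 := by simp only [hy1, hy0, ← mul_assoc, hε'.idem.eq]
  have hr : x1 * ε' = x1 := by rw [hx1, mul_assoc, hε'.idem.eq]
  have hidem : IsIdempotentElem (y1 * x1) := by
    show y1 * x1 * (y1 * x1) = y1 * x1
    rw [mul_assoc, ← mul_assoc x1, hxy1, hx1]
    simp only [← mul_assoc, hε.prim.idem.eq]
  have hne0 : y1 * x1 ≠ 0 := fun h0 => hε.prim.ne_zero (by
    have : x1 * (y1 * x1) * y1 = ε := by
      rw [show x1 * (y1 * x1) * y1 = (x1 * y1) * (x1 * y1) by simp only [mul_assoc], hxy1,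
        hε.prim.idem.eq]
    rw [← this, h0, mul_zero, zero_mul])
  have hyx : y1 * x1 = ε' := (hε'.eq_or _ hidem (hy1f.mul hx1f) (by rw [← mul_assoc, hl])
    (by rw [mul_assoc, hr])).resolve_left hne0
  have hconj : t * u * t⁻¹ ∈ P := (Subgroup.mem_normalizer_iff.mp htN u).mp hu
  have h1 := val_mul_comm ρ (hx1f.mono (Set.singleton_subset_iff.mpr hconj))
    (hy1f.mono (Set.singleton_subset_iff.mpr hconj)) (by rw [hxy1]; exact hε.prim.idem)
    (by rw [hyx]; exact hε'.idem)
  rw [hxy1, hyx] at h1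
  rw [h1, hεdef, val_cj]

end Cfsg.Agent.BlkChar.FreeAbelian
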