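import Cfsg.Agent.Lib.BlocksCore.Local
import Cfsg.Agent.Lib.CharCore.Virtual
import Cfsg.Agent.Lib.CharClifford.Galois
import Cfsg.Agent.BC84.SolvRealTools
import Mathlib.GroupTheory.FiniteAbelian.Duality

/-!
# Signs on generalized characters of an abelian `p`-group

A generalized character of an abelian `p`-group whose values are an integer prime to `p` times a
number of absolute value one becomes rational after a twist, and then congruent to a constant
modulo `p`, respectively `4`, after a second one.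
-/

set_option autoImplicit false
set_option linter.unusedSectionVars false
set_option linter.style.haveILetI false

namespace Cfsg.Agent.BlkChar.FreeAbelian

open BlocksCore CharCore
open scoped ComplexConjugate Classical

attribute [local instance] Fintype.ofFinite

/-- An integer valued generalized character without zeros is invertible up to an integer. -/
theorem exists_inverse_fun {A : Type*} [Group A] [Finite A] {F : A → ℂ}
    (hF : IsGeneralizedCharacter A F) (s : Finset ℤ) :
    ∃ g : A → ℂ, IsGeneralizedCharacter A g ∧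
      ∀ v, (∏ a ∈ s, ((a : ℂ) - F v)) = (∏ a ∈ s, (a : ℂ)) - F v * g v := by
  induction s using Finset.induction_on with
  | empty => exact ⟨0, isGeneralized_zero, fun v => by simp⟩
  | @insert a s ha ih =>
    obtain ⟨g, hg, h⟩ := ih
    refine ⟨(a : ℂ) • g + ((∏ b ∈ s, b : ℤ) : ℂ) • (1 : A → ℂ) - F * g,
      isGeneralized_sub (isGeneralized_add (isGeneralized_intCast_smul hg a)
        (isGeneralized_intCast_smul isGeneralized_one _)) (isGeneralized_mul hF hg), fun v => ?_⟩
    rw [Finset.prod_insert ha, Finset.prod_insert ha, h]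
    simp only [Pi.add_apply, Pi.sub_apply, Pi.mul_apply, Pi.smul_apply, Pi.one_apply, smul_eq_mul,
      Int.cast_prod]
    ring

/-- A rational multiple of an integer which is an algebraic integer after multiplication with a
coprime number is an integer. -/
theorem exists_int_of_coprime {a : ℂ} {N k : ℤ} {c : ℕ} (hN : (N : ℂ) * a = k) (hN0 : N ≠ 0)
    (hc : IsIntegral ℤ ((c : ℂ) * a)) (hco : IsCoprime N (c : ℤ)) : ∃ j : ℤ, a = j := by
  have ha : a = (((k : ℚ) / N : ℚ) : ℂ) := by
    push_cast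
    rw [eq_div_iff (Int.cast_ne_zero.mpr hN0), mul_comm, hN]
  obtain ⟨j, hj⟩ := CharClifford.exists_int_of_isIntegral_rat
    (q := (c : ℚ) * ((k : ℚ) / N)) (by push_cast; push_cast at ha; rwa [← ha])
  obtain ⟨x, y, hxy⟩ := hco
  refine ⟨x * k + y * j, ?_⟩
  have h1 : (x : ℂ) * N + (y : ℂ) * c = 1 := by exact_mod_cast hxy
  have h2 : (c : ℂ) * a = j := by
    have := congrArg (fun q : ℚ => (q : ℂ)) hj
    push_cast at this ha
    rw [ha]; exact this
  push_cast
  linear_combination (-a) * h1 + (x : ℂ) * hN + (y : ℂ) * h2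

variable {A : Type*} [CommGroup A] [Finite A] {p : ℕ} [Fact p.Prime]

theorem exists_int_value {h : A → ℂ} (hh : IsGeneralizedCharacter A h) :
    ∃ n : ℤ, h 1 = n := IsGeneralizedCharacter.exists_degree hh

/-- The square of the unimodular factor is a linear character. -/
theorem exists_sq_eq_hom (hA : IsPGroup p A) {h : A → ℂ} (hh : IsGeneralizedCharacter A h)
    (m : A → ℤ) (d : A → ℂ) (hhd : ∀ v, h v = m v * d v) (hd : ∀ v, d v * conj (d v) = 1)
    (hdi : ∀ v, IsIntegral ℤ (d v)) (hm : ∀ v, ¬ (p : ℤ) ∣ m v) :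
    ∃ l : A →* ℂˣ, ∀ v, d v ^ 2 = (l v : ℂ) := by
  have hp : p.Prime := Fact.out
  set F : A → ℂ := h * fun v => conj (h v) with hF
  have hFg : IsGeneralizedCharacter A F :=
    isGeneralized_mul hh (IsGeneralizedCharacter.star hh)
  have hFv : ∀ v, F v = ((m v ^ 2 : ℤ) : ℂ) := fun v => by
    simp only [hF, Pi.mul_apply, hhd, map_mul, map_intCast]
    push_cast
    linear_combination (m v : ℂ) ^ 2 * hd v
  set s : Finset ℤ := Finset.univ.image fun v => m v ^ 2
  obtain ⟨g, hg, hgF⟩ := exists_inverse_fun hFg s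
  set N : ℤ := ∏ a ∈ s, a with hN
  have hNp : ¬ (p : ℤ) ∣ N := fun hd => by
    obtain ⟨a, ha, hpa⟩ := (Prime.dvd_finsetProd_iff (Nat.prime_iff_prime_int.mp hp) _).mp hd
    obtain ⟨v, -, rfl⟩ := Finset.mem_image.mp ha
    exact hm v ((Nat.prime_iff_prime_int.mp hp).dvd_of_dvd_pow hpa)
  have hinv : ∀ v, F v * g v = N := fun v => by
    have h0 := hgF v
    rw [Finset.prod_eq_zero (Finset.mem_image_of_mem (fun v => m v ^ 2) (Finset.mem_univ v))
      (by rw [hFv v, sub_self])] at h0
    rw [hN, Int.cast_prod]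
    linear_combination h0
  set u : A → ℂ := fun v => d v ^ 2 with hu
  have hNu : g * (h * h) = (N : ℂ) • u := funext fun v => by
    have h1 := hinv v
    rw [hFv] at h1
    push_cast at h1
    simp only [Pi.mul_apply, Pi.smul_apply, smul_eq_mul, hu, hhd]
    linear_combination (d v) ^ 2 * h1
  have hgen := isGeneralized_mul hg (isGeneralized_mul hh hh)
  rw [hNu] at hgen
  have hN0 : N ≠ 0 := fun h0 => hNp (h0 ▸ dvd_zero _)
  have hcop : IsCoprime N (Nat.card A : ℤ) := by
    obtain ⟨n, hn⟩ := hA.exists_card_eq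
    rw [hn, Nat.cast_pow]
    exact (((Nat.prime_iff_prime_int.mp hp).coprime_iff_not_dvd).mpr hNp).symm.pow_right
  have hugen : IsGeneralizedCharacter A u := by
    refine isGeneralizedCharacter_iff.mpr ⟨fun x y => by rw [mul_comm y, mul_inv_cancel_right],
      fun θ => ?_⟩
    obtain ⟨k, hk⟩ := IsGeneralizedCharacter.exists_classInner_irr_eq_intCast hgen θ
    refine exists_int_of_coprime (k := k) (c := Nat.card A) ?_ hN0 ?_ hcop
    · rw [← hk]
      simp only [classInner, Pi.smul_apply, smul_eq_mul, Finset.mul_sum]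
      exact Finset.sum_congr rfl fun v _ => by ring
    · rw [classInner, ← mul_assoc, mul_inv_cancel₀ (Nat.cast_ne_zero.mpr Nat.card_pos.ne'), one_mul]
      refine IsIntegral.sum _ fun v _ => ((hdi v).pow 2).mul ?_
      rw [conj_irr]
      exact isIntegral_irr θ _
  have hnorm : classInner u u = 1 := by
    have h1 : ∀ v, u v * conj (u v) = 1 := fun v => by
      simp only [hu, map_pow, ← mul_pow, hd, one_pow]
    simp only [classInner, h1, Finset.sum_const, Finset.card_univ, nsmul_eq_mul, mul_one,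
      Nat.card_eq_fintype_card]
    exact inv_mul_cancel₀ (Nat.cast_ne_zero.mpr Fintype.card_ne_zero)
  obtain ⟨θ, hθ⟩ := IsGeneralizedCharacter.exists_irr_of_norm_one hugen hnorm
  obtain ⟨l, hl⟩ := BC84.SolvReal.exists_hom_of_comm (fun a b : A => mul_comm a b) θ
  have hd1 : u 1 = 1 := by
    obtain ⟨k, hk⟩ := IsGeneralizedCharacter.exists_degree hh
    rw [hhd] at hk
    have h0 : (m 1 : ℂ) ≠ 0 := Int.cast_ne_zero.mpr fun h0 => hm 1 (h0 ▸ dvd_zero _)
    have hreal : conj (d 1) = d 1 := by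
      have := congrArg conj hk
      rw [map_mul, map_intCast, map_intCast, ← hk] at this
      exact mul_left_cancel₀ h0 this
    have := hd 1
    rw [hreal] at this
    simpa [hu, sq] using this
  refine ⟨l, fun v => ?_⟩
  rcases hθ with hθ | hθ
  · exact (congrFun hθ v).trans (congrFun hl v)
  · exfalso
    have := congrFun hθ 1
    rw [Pi.neg_apply, hd1, hl] at this
    norm_num at this

/-- A linear character trivial on the elements of order two is a square. -/
theorem exists_sqrt_hom (l : A →* ℂˣ) (hl : ∀ x : A, x ^ 2 = 1 → l x = 1) :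
    ∃ μ : A →* ℂˣ, μ ^ 2 = l := by
  let sq : A →* A := powMonoidHom 2
  let sqh : (A →* ℂˣ) →* (A →* ℂˣ) := powMonoidHom 2
  obtain ⟨φ⟩ := CommGroup.monoidHom_mulEquiv_of_hasEnoughRootsOfUnity A ℂ
  haveI : Finite (A →* ℂˣ) := Finite.of_equiv _ φ.symm.toEquiv
  -- the characters trivial on the kernel of squaring factor through the image
  let e : A ⧸ sq.ker ≃* sq.range := QuotientGroup.quotientKerEquivRange sq
  let S : Subgroup (A →* ℂˣ) :=
    { carrier := {f | ∀ x ∈ sq.ker, f x = 1}
      one_mem' := fun x _ => rfl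
      mul_mem' := fun {f g} hf hg x hx => by simp [hf x hx, hg x hx]
      inv_mem' := fun {f} hf x hx => by simp [hf x hx] }
  have hS : ∀ f, f ∈ S ↔ ∀ x ∈ sq.ker, f x = 1 := fun f => Iff.rfl
  have hle : sqh.range ≤ S := by
    rintro _ ⟨μ, rfl⟩
    refine (hS _).mpr fun x hx => ?_
    show μ x ^ 2 = 1
    rw [← map_pow, show x ^ 2 = 1 from hx, map_one]
  have hcardS : Nat.card S ≤ Nat.card sq.range := by
    haveI : HasEnoughRootsOfUnity ℂ (Monoid.exponent (A ⧸ sq.ker)) := inferInstance
    refine le_of_le_of_eq ?_ ((CommGroup.card_monoidHom_of_hasEnoughRootsOfUnity (A ⧸ sq.ker) ℂ).trans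
      (Nat.card_congr e.toEquiv))
    obtain ⟨ψ⟩ := CommGroup.monoidHom_mulEquiv_of_hasEnoughRootsOfUnity (A ⧸ sq.ker) ℂ
    haveI : Finite ((A ⧸ sq.ker) →* ℂˣ) := Finite.of_equiv _ ψ.symm.toEquiv
    refine Nat.card_le_card_of_injective
      (fun f : S => QuotientGroup.lift sq.ker f.1 fun x hx => f.2 x hx) fun f g h => ?_
    refine Subtype.ext (MonoidHom.ext fun x => ?_)
    exact DFunLike.congr_fun h (x : A ⧸ sq.ker)
  have hcard : Nat.card sqh.range = Nat.card sq.range := by
    refine Nat.card_congr ((φ.subgroupMap sqh.range).trans (MulEquiv.subgroupCongr ?_)).toEquiv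
    ext x
    simp only [Subgroup.mem_map, MonoidHom.mem_range, MonoidHom.coe_coe]
    constructor
    · rintro ⟨_, ⟨μ, rfl⟩, rfl⟩
      exact ⟨φ μ, (map_pow φ μ 2).symm⟩
    · rintro ⟨y, rfl⟩
      exact ⟨φ.symm y ^ 2, ⟨φ.symm y, rfl⟩, by simp [sq]⟩
  have heq : sqh.range = S :=
    Subgroup.eq_of_le_of_card_ge hle (hcardS.trans hcard.ge)
  have : l ∈ sqh.range := heq ▸ (hS l).mpr fun x hx => hl x hx
  exact this

/-- A twist with rational values. -/
theorem exists_rational_twist (hA : IsPGroup p A) {h : A → ℂ} (hh : IsGeneralizedCharacter A h)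
    (m : A → ℤ) (d : A → ℂ) (hhd : ∀ v, h v = m v * d v) (hd : ∀ v, d v * conj (d v) = 1)
    (hdi : ∀ v, IsIntegral ℤ (d v)) (hm : ∀ v, ¬ (p : ℤ) ∣ m v) :
    ∃ H : A → ℤ, IsGeneralizedCharacter A (fun v => (H v : ℂ)) ∧ ∀ v, H v = m v ∨ H v = -m v := by
  obtain ⟨l, hl⟩ := exists_sq_eq_hom hA hh m d hhd hd hdi hm
  have hl2 : ∀ x : A, x ^ 2 = 1 → l x = 1 := fun x hx => by
    have hinv : x⁻¹ = x := inv_eq_of_mul_eq_one_right (by rwa [← pow_two])
    have hreal : conj (h x) = h x := by rw [← IsGeneralizedCharacter.apply_inv hh, hinv]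
    have h0 : (m x : ℂ) ≠ 0 := Int.cast_ne_zero.mpr fun h0 => hm x (h0 ▸ dvd_zero _)
    rw [hhd, map_mul, map_intCast] at hreal
    have := hd x
    rw [mul_left_cancel₀ h0 hreal, ← pow_two, hl] at this
    exact Units.ext (this.trans Units.val_one.symm)
  obtain ⟨μ, hμ⟩ := exists_sqrt_hom l hl2
  have hgen : IsGeneralizedCharacter A (h * fun v => ((μ⁻¹) v : ℂ)) :=
    isGeneralized_mul hh (CharCore.irr_isGeneralized ⟨_, isIrrCharacter_hom μ⁻¹⟩)
  have hval : ∀ v, ∃ H : ℤ, h v * ((μ⁻¹) v : ℂ) = H ∧ (H = m v ∨ H = -m v) := fun v => by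
    have hsq : (d v * ((μ⁻¹) v : ℂ)) ^ 2 = 1 := by
      rw [mul_pow, hl, ← hμ, MonoidHom.inv_apply]
      simp
    rcases sq_eq_one_iff.mp hsq with h1 | h1
    · exact ⟨m v, by rw [hhd, mul_assoc, h1, mul_one], Or.inl rfl⟩
    · exact ⟨-m v, by rw [hhd, mul_assoc, h1]; push_cast; ring, Or.inr rfl⟩
  choose H hH hHm using hval
  refine ⟨H, ?_, hHm⟩
  convert hgen using 1
  funext v
  exact (hH v).symm

/-- The values of a rational generalized character are congruent to the degree. -/
theorem dvd_sub_one {M : Ideal AlgInt} (hM : IsPModular p M) (hA : IsPGroup p A) {H : A → ℤ}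
    (hH : IsGeneralizedCharacter A (fun v => (H v : ℂ))) (v : A) : (p : ℤ) ∣ H v - H 1 := by
  have := BlocksCore.isPrime hM
  refine (memLocalIdeal_intCast_iff hM _).mp ?_
  obtain ⟨c, hc⟩ := IsGeneralizedCharacter.exists_sum hH
  have e : ∀ w, (H w : ℂ) = ∑ θ : IrrCharacter A, (c θ : ℂ) * (θ : A → ℂ) w := fun w => by
    simpa [Finset.sum_apply] using congrFun hc w
  push_cast
  rw [e, e, ← Finset.sum_sub_distrib]
  refine memLocalIdeal_sum fun θ _ => ?_
  obtain ⟨l, hl⟩ := BC84.SolvReal.exists_hom_of_comm (fun a b : A => mul_comm a b) θ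
  rw [← mul_sub, hl]
  refine memLocalIdeal_mul_left (memLocalRing_intCast _) ?_
  simp only [map_one, Units.val_one]
  obtain ⟨n, hn⟩ := hA v
  exact memLocalIdeal_sub_one_of_pow hM (k := n)
    (by rw [← Units.val_pow_eq_pow_val, ← map_pow, hn, map_one, Units.val_one])

end Cfsg.Agent.BlkChar.FreeAbelian
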