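import Cfsg.Agent.BlkChar.FreeAbelian.LocalVal
import Cfsg.Agent.BlkChar.FreeAbelian.Glue

/-!
# Signs of the traces of a point

The numbers `m(R)` are prime to `p` and, with suitable signs, form a generalized character along
the joins with every nontrivial subgroup.
-/

set_option autoImplicit false
set_option linter.unusedSectionVars false
set_option linter.style.haveILetI false

namespace Cfsg.Agent.BlkChar.FreeAbelian

open BlocksCore BC85 BC85.Star CharCore
open BlocksDefect hiding red Res charP_res red_mul red_sum red_eq_zero red_natCast red_of_mem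
open scoped Classical ComplexConjugate

attribute [local instance] Fintype.ofFinite

universe u

variable {G : Type u} [Group G] [Fintype G] {p : ℕ} [Fact p.Prime] {M : Ideal AlgInt}
  [hP : M.IsPrime]

local notation "C[" Q "]" => Subgroup.centralizer (Q : Set G)

theorem isIntegral_conj {z : ℂ} (h : IsIntegral ℤ z) : IsIntegral ℤ (conj z) :=
  h.map (starRingEnd ℂ).toIntAlgHom

theorem zpowers_pow_eq {A : Type*} [Group A] [Finite A] (v : A) {j : ℕ}
    (hj : j.Coprime (orderOf v)) : Subgroup.zpowers (v ^ j) = Subgroup.zpowers v := by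
  refine Subgroup.eq_of_le_of_card_ge
    (Subgroup.zpowers_le.mpr (Subgroup.pow_mem _ (Subgroup.mem_zpowers v) j)) ?_
  rw [Nat.card_zpowers, Nat.card_zpowers, Nat.Coprime.orderOf_pow hj.symm]

variable (p) in
/-- The signed trace. -/
noncomputable def gFun (P : Subgroup G) (c : Set (IrrCharacter (Subgroup.centralizer (P : Set G))))
    (ε : KG M G) (R : Subgroup G) : ℤ :=
  if (sgnMod p : ℤ) ∣ (mOf p P c ε R : ℤ) - mOf p P c ε P then (mOf p P c ε R : ℤ)
  else -(mOf p P c ε R : ℤ)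

theorem gFun_eq_or (P : Subgroup G) (c : Set (IrrCharacter (Subgroup.centralizer (P : Set G))))
    (ε : KG M G) (R : Subgroup G) :
    gFun p P c ε R = (mOf p P c ε R : ℤ) ∨ gFun p P c ε R = -(mOf p P c ε R : ℤ) := by
  rw [gFun]
  split_ifs <;> simp

variable {B : Set (IrrCharacter G)} {P : Subgroup G}
  {c : Set (IrrCharacter (Subgroup.centralizer (P : Set G)))}
  (hM : IsPModular p M) (hmax : IsMaximalBrauerPair p M B P c)
  (hab : ∀ x ∈ P, ∀ y ∈ P, x * y = y * x)
  (hfree : ∀ g : G, g ∈ stabT P c → ∀ x : G, x ∈ P → x ≠ 1 → g * x * g⁻¹ = x →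
    g ∈ Subgroup.centralizer ((P : Subgroup G) : Set G))
  {ε : KG M G} (hε : IsPoint P c ε) (hP1 : P ≠ ⊥)

include hM hmax hab hfree hε

/-- The unimodular factors. -/
theorem local_unit {Q : Subgroup G} {fQ : Finset (IrrCharacter C[Q])}
    {δ d : IrrCharacter C[Q] → P → ℂ} (hcard : fQ.card = Nat.card P)
    (hδ : ∀ η, IsCharacter P (δ η))
    (hδd : ∀ η v, δ η v = (mOf p P c ε (Q ⊔ Subgroup.zpowers (v : G)) : ℂ) * d η v)
    (hd : ∀ η v, IsIntegral ℤ (d η v)) (hd0 : ∀ η ∈ fQ, ∀ v, d η v ≠ 0)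
    (hsum : ∀ v : P, ∑ η ∈ fQ, δ η v * conj (δ η v) =
      (Nat.card P : ℂ) * (mOf p P c ε (Q ⊔ Subgroup.zpowers (v : G)) : ℂ) ^ 2)
    (hm : ∀ v : P, mOf p P c ε (Q ⊔ Subgroup.zpowers (v : G)) ≠ 0) :
    ∀ η ∈ fQ, ∀ v, d η v * conj (d η v) = 1 := by
  set r : fQ → P → ℝ := fun η v => Complex.normSq (d η.1 v) with hr
  have hrc : ∀ (η : fQ) v, ((r η v : ℝ) : ℂ) = d η.1 v * conj (d η.1 v) := fun η v =>
    (Complex.mul_conj _).symm
  have hsum' : ∀ v, ∑ η : fQ, r η v = (Nat.card P : ℝ) := by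
    intro v
    have h := hsum v
    rw [← Finset.sum_coe_sort] at h
    have h2 : ((∑ η : fQ, r η v : ℝ) : ℂ) * (mOf p P c ε (Q ⊔ Subgroup.zpowers (v : G)) : ℂ) ^ 2 =
        ((Nat.card P : ℝ) : ℂ) * (mOf p P c ε (Q ⊔ Subgroup.zpowers (v : G)) : ℂ) ^ 2 := by
      push_cast
      rw [← h, Finset.sum_mul]
      refine Finset.sum_congr rfl fun η _ => ?_
      rw [hrc, hδd, map_mul, map_natCast]
      ring
    exact_mod_cast mul_right_cancel₀
      (pow_ne_zero _ (Nat.cast_ne_zero.mpr (hm v))) h2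
  intro η hη v
  have key := eq_one_of_mean r (fun η v => Complex.normSq_pos.mpr (hd0 η.1 η.2 v))
    (fun η => IsIntegral.prod _ fun v _ => by
      rw [hrc]; exact (hd η.1 v).mul (isIntegral_conj (hd η.1 v)))
    (fun η σ => ?_) (by
      rw [Finset.sum_comm, Finset.sum_congr rfl fun v _ => hsum' v, Finset.sum_const,
        Finset.card_univ, nsmul_eq_mul, Fintype.card_coe, hcard]
      ring) ⟨η, hη⟩ v
  · rw [← hrc ⟨η, hη⟩ v, key, Complex.ofReal_one]
  obtain ⟨j, hj, hσ⟩ := exists_galois_pow (A := P) σ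
  rw [map_prod]
  refine Eq.trans (Finset.prod_congr rfl fun v _ => ?_)
    (Fintype.prod_equiv (powCoprime hj.symm) (fun v => ((r η (v ^ j) : ℝ) : ℂ))
      (fun v => ((r η v : ℝ) : ℂ)) fun v => rfl)
  have hz : Subgroup.zpowers ((v ^ j : P) : G) = Subgroup.zpowers (v : G) := by
    rw [SubmonoidClass.coe_pow]
    refine zpowers_pow_eq _ (Nat.Coprime.of_dvd_right ?_ hj)
    rw [Subgroup.orderOf_coe]
    exact orderOf_dvd_natCard v
  have hgen := CharCore.IsCharacter.isGeneralized (hδ η.1)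
  have h1 := hσ _ hgen v
  have h2 := hσ _ (IsGeneralizedCharacter.star hgen) v
  have h3 := congrArg₂ (· * ·) h1 h2
  simp only [hδd, hz, map_mul, map_natCast] at h3
  rw [hrc, hrc, map_mul]
  refine mul_left_cancel₀ (pow_ne_zero 2 (Nat.cast_ne_zero.mpr (hm v) :
    (mOf p P c ε (Q ⊔ Subgroup.zpowers (v : G)) : ℂ) ≠ 0)) ?_
  linear_combination h3

omit hM hmax hfree hε in
theorem memLocalIdeal_sub_one' (hM : IsPModular p M) (hPp : IsPGroup p P) {f : P → ℂ}
    (hf : IsGeneralizedCharacter P f) (v : P) : MemLocalIdeal M (f v - f 1) := by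
  obtain ⟨a, ha⟩ := IsGeneralizedCharacter.exists_sum hf
  have e : ∀ w, f w = ∑ θ : IrrCharacter P, (a θ : ℂ) * (θ : P → ℂ) w := fun w => by
    simpa [Finset.sum_apply] using congrFun ha w
  rw [e, e, ← Finset.sum_sub_distrib]
  refine memLocalIdeal_sum fun θ _ => ?_
  obtain ⟨l, hl⟩ := BC84.SolvReal.exists_hom_of_comm
    (fun x y : P => Subtype.ext (hab x x.2 y y.2)) θ
  rw [← mul_sub, hl]
  refine memLocalIdeal_mul_left (memLocalRing_intCast _) ?_
  simp only [map_one, Units.val_one]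
  obtain ⟨n, hn⟩ := hPp v
  exact memLocalIdeal_sub_one_of_pow hM (k := n)
    (by rw [← Units.val_pow_eq_pow_val, ← map_pow, hn, map_one, Units.val_one])

include hP1

/-- The traces are prime to `p`. -/
theorem not_dvd_mOf : ∀ R : Subgroup G, R ≤ P → R ≠ ⊥ → ¬ p ∣ mOf p P c ε R := by
  suffices H : ∀ (n : ℕ) (R : Subgroup G), Nat.card P ≤ Nat.card R + n → R ≤ P → R ≠ ⊥ →
      ¬ p ∣ mOf p P c ε R from fun R => H _ R (Nat.le_add_left _ _)
  intro n
  induction n with
  | zero =>
    intro R hn hR _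
    obtain rfl : R = P := Subgroup.eq_of_le_of_card_ge hR (by simpa using hn)
    obtain ⟨f, F, hd⟩ := exists_isDatum hM hmax hab hfree hε le_rfl hP1
    obtain rfl : f = c := subpairLE_self_eq hM hd.below
    obtain ⟨θ, hθ⟩ := isPBlock_nonempty hmax.1.1.2
    exact hε.not_dvd hM hmax hab hfree hP1 hd.incl_red hθ (hd.on θ hθ)
  | succ n ih =>
    intro R hn hR hR1
    by_cases hRP : R = P
    · exact ih R (by rw [hRP]; omega) hR hR1
    obtain ⟨w, hw, hwR⟩ := SetLike.exists_of_lt (lt_of_le_of_ne hR hRP)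
    have hup : ∀ v : P, (v : G) ∉ R → ¬ p ∣ mOf p P c ε (R ⊔ Subgroup.zpowers (v : G)) := by
      intro v hv
      have hlt : R < R ⊔ Subgroup.zpowers (v : G) := lt_of_le_of_ne le_sup_left fun h =>
        hv (h ▸ Subgroup.mem_sup_right (Subgroup.mem_zpowers _))
      have hc : Nat.card R < Nat.card ↥(R ⊔ Subgroup.zpowers (v : G)) :=
        lt_of_not_ge fun h => hlt.ne (Subgroup.eq_of_le_of_card_ge hlt.le h)
      exact ih _ (by omega) (sup_le hR (Subgroup.zpowers_le.mpr v.2))
        (fun h => hR1 (le_bot_iff.mp (h ▸ le_sup_left)))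
    obtain ⟨fQ, δ, d, hcard, ⟨η, hη⟩, hδ, hδd, hd, hδ1, hd0, hsum⟩ :=
      local_pre hM hmax hab hfree hε hR hR1
    have hw' := hup ⟨w, hw⟩ hwR
    have hR0 : mOf p P c ε R ≠ 0 := fun h0 => by
      have h1 := isCharacter_eq_zero (hδ η) (by rw [hδ1 η hη, h0, Nat.cast_zero]) ⟨w, hw⟩
      rw [hδd] at h1
      refine hd0 η hη ⟨w, hw⟩ ((mul_eq_zero.mp h1).resolve_left ?_)
      exact Nat.cast_ne_zero.mpr fun h => hw' (h ▸ dvd_zero p)
    have hm : ∀ v : P, mOf p P c ε (R ⊔ Subgroup.zpowers (v : G)) ≠ 0 := fun v => by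
      by_cases hv : (v : G) ∈ R
      · rwa [sup_eq_left.mpr (Subgroup.zpowers_le.mpr hv)]
      · exact fun h => hup v hv (h ▸ dvd_zero p)
    have hu := local_unit hM hmax hab hfree hε hcard hδ hδd hd hd0 hsum hm η hη ⟨w, hw⟩
    intro hdvd
    refine hw' ((memLocalIdeal_natCast_iff hM _).mp ?_)
    have h1 : MemLocalIdeal M (δ η ⟨w, hw⟩) := by
      have h := memLocalIdeal_sub_one' hab hM hmax.1.1.1
        (CharCore.IsCharacter.isGeneralized (hδ η)) ⟨w, hw⟩
      rw [hδ1 η hη] at h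
      simpa using memLocalIdeal_add h ((memLocalIdeal_natCast_iff hM _).mpr hdvd)
    have h2 := memLocalIdeal_mul_right h1
      (memLocalRing_of_isIntegral (M := M) (isIntegral_conj (hd η ⟨w, hw⟩)))
    rwa [hδd, mul_assoc, hu, mul_one] at h2

/-- A rational generalized character with the traces as absolute values. -/
theorem exists_signed {S : Subgroup G} (hS : S ≤ P) (hS1 : S ≠ ⊥) :
    ∃ H : P → ℤ, IsGeneralizedCharacter P (fun v => (H v : ℂ)) ∧
      (∀ v : P, H v = (mOf p P c ε (S ⊔ Subgroup.zpowers (v : G)) : ℤ) ∨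
        H v = -(mOf p P c ε (S ⊔ Subgroup.zpowers (v : G)) : ℤ)) ∧
      ∀ v, (sgnMod p : ℤ) ∣ H v - H 1 := by
  letI : CommGroup P :=
    { (inferInstance : Group P) with mul_comm := fun x y => Subtype.ext (hab x x.2 y y.2) }
  have hnd : ∀ v : P, ¬ p ∣ mOf p P c ε (S ⊔ Subgroup.zpowers (v : G)) := fun v =>
    not_dvd_mOf hM hmax hab hfree hε hP1 _ (sup_le hS (Subgroup.zpowers_le.mpr v.2))
      (fun h => hS1 (le_bot_iff.mp (h ▸ le_sup_left)))
  obtain ⟨fQ, δ, d, hcard, ⟨η, hη⟩, hδ, hδd, hd, -, hd0, hsum⟩ :=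
    local_pre hM hmax hab hfree hε hS hS1
  have hu := local_unit hM hmax hab hfree hε hcard hδ hδd hd hd0 hsum
    (fun v h => hnd v (h ▸ dvd_zero p)) η hη
  have hnd' : ∀ v : P, ¬ (p : ℤ) ∣ (mOf p P c ε (S ⊔ Subgroup.zpowers (v : G)) : ℤ) := fun v h =>
    hnd v (Int.natCast_dvd_natCast.mp h)
  obtain ⟨H, hH, hHm⟩ := exists_rational_twist (A := P) hmax.1.1.1
    (CharCore.IsCharacter.isGeneralized (hδ η))
    (fun v => (mOf p P c ε (S ⊔ Subgroup.zpowers (v : G)) : ℤ)) (d η)
    (fun v => by rw [hδd]; push_cast; rfl) hu (hd η) hnd'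
  obtain ⟨H', hH', hH'H, hcong⟩ := exists_normalised hM hmax.1.1.1 hH fun v h => by
    rcases hHm v with e | e <;> rw [e] at h
    · exact hnd' v h
    · exact hnd' v (by simpa using h)
  refine ⟨H', hH', fun v => ?_, hcong⟩
  rcases hH'H v with e | e <;> rcases hHm v with e' | e' <;> rw [e, e'] <;> simp

/-- The traces are congruent to each other up to sign. -/
theorem dvd_mOf : ∀ R : Subgroup G, R ≤ P → R ≠ ⊥ →
    (sgnMod p : ℤ) ∣ (mOf p P c ε R : ℤ) - mOf p P c ε P ∨
      (sgnMod p : ℤ) ∣ (mOf p P c ε R : ℤ) + mOf p P c ε P := by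
  suffices H : ∀ (n : ℕ) (R : Subgroup G), Nat.card P ≤ Nat.card R + n → R ≤ P → R ≠ ⊥ →
      ((sgnMod p : ℤ) ∣ (mOf p P c ε R : ℤ) - mOf p P c ε P ∨
      (sgnMod p : ℤ) ∣ (mOf p P c ε R : ℤ) + mOf p P c ε P) from
    fun R => H _ R (Nat.le_add_left _ _)
  intro n
  induction n with
  | zero =>
    intro R hn hR _
    obtain rfl : R = P := Subgroup.eq_of_le_of_card_ge hR (by simpa using hn)
    exact Or.inl (by simp)
  | succ n ih =>
    intro R hn hR hR1
    by_cases hRP : R = P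
    · exact ih R (by rw [hRP]; omega) hR hR1
    obtain ⟨w, hw, hwR⟩ := SetLike.exists_of_lt (lt_of_le_of_ne hR hRP)
    have hlt : R < R ⊔ Subgroup.zpowers w := lt_of_le_of_ne le_sup_left fun h =>
      hwR (h ▸ Subgroup.mem_sup_right (Subgroup.mem_zpowers _))
    have hc : Nat.card R < Nat.card ↥(R ⊔ Subgroup.zpowers w) :=
      lt_of_not_ge fun h => hlt.ne (Subgroup.eq_of_le_of_card_ge hlt.le h)
    have hR' := ih _ (by omega) (sup_le hR (Subgroup.zpowers_le.mpr hw))
      (fun h => hR1 (le_bot_iff.mp (h ▸ le_sup_left)))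
    obtain ⟨H, -, hHm, hcong⟩ := exists_signed hM hmax hab hfree hε hP1 hR hR1
    have h1 := hHm 1
    simp only [OneMemClass.coe_one, Subgroup.zpowers_one_eq_bot, sup_bot_eq] at h1
    have hw' := hHm ⟨w, hw⟩
    simp only at hw'
    have h2 : (sgnMod p : ℤ) ∣
        (mOf p P c ε (R ⊔ Subgroup.zpowers w) : ℤ) - mOf p P c ε R ∨
        (sgnMod p : ℤ) ∣ (mOf p P c ε (R ⊔ Subgroup.zpowers w) : ℤ) + mOf p P c ε R := by
      have hz := hcong ⟨w, hw⟩
      rcases hw' with e | e <;> rcases h1 with e' | e' <;> rw [e, e'] at hz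
      · exact Or.inl hz
      · exact Or.inr (by rwa [sub_neg_eq_add] at hz)
      · refine Or.inr (dvd_neg.mp ?_)
        rwa [neg_add']
      · refine Or.inl (dvd_neg.mp ?_)
        rwa [neg_sub', sub_neg_eq_add, neg_add_eq_sub, ← neg_add_eq_sub] at *
    rcases h2 with h2 | h2 <;> rcases hR' with h3 | h3
    · left
      have := dvd_sub h3 h2
      rwa [sub_sub_sub_cancel_left] at this
    · right
      have := dvd_sub h3 h2
      rwa [add_sub_sub_cancel, add_comm] at this
    · right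
      have := dvd_sub h2 h3
      rwa [add_sub_sub_cancel] at this
    · left
      have := dvd_sub h2 h3
      rwa [add_sub_add_left_eq_sub] at this

theorem gFun_spec {R : Subgroup G} (hR : R ≤ P) (hR1 : R ≠ ⊥) :
    (sgnMod p : ℤ) ∣ gFun p P c ε R - mOf p P c ε P ∧ ¬ (p : ℤ) ∣ gFun p P c ε R := by
  refine ⟨?_, fun h => ?_⟩
  · rcases dvd_mOf hM hmax hab hfree hε hP1 R hR hR1 with hd | hd <;> rw [gFun]
    · rw [if_pos hd]; exact hd
    · split_ifs with h
      · exact h
      · rw [← neg_add', dvd_neg]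
        exact hd
  · refine not_dvd_mOf hM hmax hab hfree hε hP1 R hR hR1 (Int.natCast_dvd_natCast.mp ?_)
    rcases gFun_eq_or (p := p) P c ε R with e | e <;> rw [e] at h
    · exact h
    · exact dvd_neg.mp h

/-- The signed traces glue to a generalized character. -/
theorem exists_glue_point : ∃ f : P → ℂ, IsGeneralizedCharacter P f ∧
    ∀ v : P, v ≠ 1 → f v = (gFun p P c ε (Subgroup.zpowers (v : G)) : ℂ) := by
  letI : CommGroup P :=
    { (inferInstance : Group P) with mul_comm := fun x y => Subtype.ext (hab x x.2 y y.2) }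
  have hmap : ∀ (S : Subgroup P) (v : P), (S ⊔ Subgroup.zpowers v).map P.subtype =
      S.map P.subtype ⊔ Subgroup.zpowers (v : G) := fun S v => by
    rw [Subgroup.map_sup, MonoidHom.map_zpowers]
    rfl
  obtain ⟨f, hf, hfv⟩ := exists_glue (A := P) (fun S => gFun p P c ε (S.map P.subtype))
    fun S hS => by
      have hSP : S.map P.subtype ≤ P := Subgroup.map_subtype_le S
      have hS1 : S.map P.subtype ≠ ⊥ := fun h => hS (by
        rwa [Subgroup.map_eq_bot_iff_of_injective _ P.subtype_injective] at h)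
      obtain ⟨H, hH, hHm, hcong⟩ := exists_signed hM hmax hab hfree hε hP1 hSP hS1
      have h1 := hHm 1
      simp only [OneMemClass.coe_one, Subgroup.zpowers_one_eq_bot, sup_bot_eq] at h1
      obtain ⟨s, hs, hsH⟩ : ∃ s : ℤ, (s = 1 ∨ s = -1) ∧
          s * H 1 = gFun p P c ε (S.map P.subtype) := by
        rcases gFun_eq_or (p := p) P c ε (S.map P.subtype) with e | e <;> rcases h1 with e' | e'
        · exact ⟨1, Or.inl rfl, by rw [e, e', one_mul]⟩
        · exact ⟨-1, Or.inr rfl, by rw [e, e']; ring⟩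
        · exact ⟨-1, Or.inr rfl, by rw [e, e']; ring⟩
        · exact ⟨1, Or.inl rfl, by rw [e, e', one_mul]⟩
      refine (congrArg (IsGeneralizedCharacter P) (funext fun v => ?_)).mpr
        (isGeneralized_intCast_smul hH s)
      simp only [Pi.smul_apply, smul_eq_mul, hmap]
      rw [← Int.cast_mul]
      refine congrArg _ (Eq.symm ?_)
      set R := S.map P.subtype ⊔ Subgroup.zpowers (v : G) with hR
      have hRP : R ≤ P := sup_le hSP (Subgroup.zpowers_le.mpr v.2)
      have hR0 : R ≠ ⊥ := fun h => hS1 (le_bot_iff.mp (h ▸ le_sup_left))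
      obtain ⟨hg1, hg2⟩ := gFun_spec hM hmax hab hfree hε hP1 hRP hR0
      by_contra hne
      have hpm : s * H v = gFun p P c ε R ∨ s * H v = -gFun p P c ε R := by
        have hHv := hHm v
        rw [← hR] at hHv
        rcases gFun_eq_or (p := p) P c ε R with e | e <;> rcases hHv with e' | e' <;>
          rcases hs with rfl | rfl <;> rw [e, e'] <;> simp
      have hneg : s * H v = -gFun p P c ε R := hpm.resolve_left hne
      have hd : (sgnMod p : ℤ) ∣ 2 * gFun p P c ε R := by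
        have h2 := (gFun_spec hM hmax hab hfree hε hP1 hSP hS1).1
        have h3 := (dvd_mul_of_dvd_right (hcong v) s)
        rw [mul_sub, hsH, hneg] at h3
        have := dvd_sub (dvd_sub hg1 h2) h3
        rwa [show gFun p P c ε R - ↑(mOf p P c ε P) -
          (gFun p P c ε (S.map P.subtype) - ↑(mOf p P c ε P)) -
          (-gFun p P c ε R - gFun p P c ε (S.map P.subtype)) = 2 * gFun p P c ε R by ring] at this
      refine hg2 ?_
      unfold sgnMod at hd
      split_ifs at hd with h2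
      · subst h2
        obtain ⟨y, hy⟩ := hd
        exact ⟨y, by push_cast at hy ⊢; omega⟩
      · refine ((Nat.prime_iff_prime_int.mp Fact.out).dvd_mul.mp hd).resolve_left fun h => h2 ?_
        have : p ∣ 2 := Int.natCast_dvd_natCast.mp h
        exact (Nat.prime_dvd_prime_iff_eq Fact.out Nat.prime_two).mp this
  refine ⟨f, hf, fun v hv => ?_⟩
  rw [hfv v hv, MonoidHom.map_zpowers]
  rfl

end Cfsg.Agent.BlkChar.FreeAbelian
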