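import Cfsg.Agent.BlkChar.FreeAbelian.Transfer
import Cfsg.Agent.BlkChar.CyclicDefect.Modular

/-!
# The simple module of a block with one Brauer character

A block whose members agree on the regular elements has a single simple component; it gives the
trace of a local idempotent prime to `p` and links any two of them.
-/

set_option autoImplicit false
set_option linter.unusedSectionVars false
set_option linter.style.haveILetI false

namespace Cfsg.Agent.BlkChar.FreeAbelian

open BlocksCore BC85 BC85.Star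
open BlocksDefect hiding red Res charP_res red_mul red_sum red_eq_zero red_natCast red_of_mem
open scoped Classical ComplexConjugate

universe u

variable {K : Type u} [Group K] [Fintype K] {p : ℕ} [Fact p.Prime] {M : Ideal AlgInt}
  [hP : M.IsPrime]

/-- One simple component. -/
theorem exists_simple (hM : IsPModular p M) {f : Set (IrrCharacter K)} (hf : IsPBlock M f)
    {θ₀ : IrrCharacter K} (hθ₀ : θ₀ ∈ f)
    (hreg : ∀ θ ∈ f, ∀ s : K, ¬ p ∣ orderOf s → (θ : K → ℂ) s = (θ₀ : K → ℂ) s)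
    {z₀ : KG M K} (hz₀ : IsIdempotentElem z₀) (hz₀0 : z₀ ≠ 0)
    (hz₀f : z₀ * emb M (blockCoeff f) = z₀) :
    ∃ (n : ℕ) (R : KG M K →ₐ[BC85.Star.Res M] Matrix (Fin n) (Fin n) (BC85.Star.Res M))
      (a : BC85.Star.Res M),
      Function.Surjective R ∧
      (∀ z : KG M K, (R z).trace =
        a * ∑ g : K, z.coeff g * BlocksDefect.red M ((θ₀ : K → ℂ) g)) ∧
      ∀ z : KG M K, z * emb M (blockCoeff f) = z → R z = 0 → IsNilpotent z := by
  have := isMaximal hM
  have := BlocksDefect.charP_res (M := M) hM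
  have := finite_irr (G := K)
  letI := Fintype.ofFinite f
  have : Module.Finite (BC85.Star.Res M) (KG M K) := MonoidAlgebra.moduleFinite
  have : IsArtinianRing (KG M K) := IsArtinianRing.of_finite (BC85.Star.Res M) _
  have hε := isIntClassFun_blockCoeff hM hf
  set ε := emb M (blockCoeff f) with hεdef
  have hεi : IsIdempotentElem ε := (bidem_idem hM hf).map (red M K)
  have hεc : ∀ z : KG M K, ε * z = z * ε := by
    intro z
    rw [show z = ∑ g : K, z.coeff g • MonoidAlgebra.of (BC85.Star.Res M) K g from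
      MonoidAlgebra.ext (Finsupp.ext fun g => by simp), Finset.mul_sum, Finset.sum_mul]
    refine Finset.sum_congr rfl fun g _ => ?_
    rw [mul_smul_comm, smul_mul_assoc, hεdef, ← red_bidem, ← red_of, ← map_mul, ← map_mul,
      (commute_bidem f _).eq]
  obtain ⟨L, hL⟩ := BlockAlg8.exists_jacobson_pow (A := KG M K)
  have hnilJ : ∀ x ∈ Ring.jacobson (KG M K), IsNilpotent x := fun x hx => ⟨L, by
    have h2 := Ideal.pow_mem_pow hx L
    rwa [hL, Ideal.mem_bot] at h2⟩
  obtain ⟨r, d, π₀, hd, hπs, hπker⟩ :=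
    BlockAlg8.exists_pi (K := BC85.Star.Res M) (A := KG M K)
  have hε' : ∀ i, π₀ ε i = 0 ∨ π₀ ε i = 1 := by
    intro i
    refine BlockAlg8.scalar_of_central (fun x => ?_) ?_
    · obtain ⟨z, hz⟩ := hπs (Pi.single i x)
      have h := congrArg (fun w => π₀ w i) (hεc z)
      simpa [hz] using h
    · simpa using congrArg (fun z => π₀ z i) hεi.eq
  obtain ⟨i, hi⟩ : ∃ i, π₀ ε i = 1 := by
    by_contra h
    push Not at h
    refine hz₀0 (eq_zero_of_idem_of_nilpotent hz₀ (hnilJ _ ((hπker _).mp (funext fun i => ?_))))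
    rw [← hz₀f, map_mul, Pi.mul_apply, (hε' i).resolve_right (h i), mul_zero]
    rfl
  let tr : Fin r → KG M K →ₗ[BC85.Star.Res M] BC85.Star.Res M := fun k =>
    (Matrix.traceLinearMap (Fin (d k)) (BC85.Star.Res M) (BC85.Star.Res M)).comp
      ((LinearMap.proj k).comp π₀.toLinearMap)
  let Λ : KG M K →ₗ[BC85.Star.Res M] BC85.Star.Res M :=
    ∑ g : K, BlocksDefect.red M ((θ₀ : K → ℂ) g) •
      (Finsupp.lapply g).comp (MonoidAlgebra.coeffLinearEquiv (BC85.Star.Res M)).toLinearMap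
  have hΛ : ∀ z : KG M K, Λ z = ∑ g : K, z.coeff g * BlocksDefect.red M ((θ₀ : K → ℂ) g) := by
    intro z
    simp only [Λ, LinearMap.sum_apply, LinearMap.smul_apply, LinearMap.comp_apply, smul_eq_mul]
    exact Finset.sum_congr rfl fun g _ => by
      rw [mul_comm]
      rfl
  have hΛg : ∀ g : K, Λ (MonoidAlgebra.of (BC85.Star.Res M) K g) =
      BlocksDefect.red M ((θ₀ : K → ℂ) g) := by
    intro g
    rw [hΛ, Finset.sum_eq_single g]
    · simp
    · intro b _ hb; simp [Finsupp.single_eq_of_ne hb]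
    · simp
  have hred : ∀ (θ : f) g, BlocksDefect.red M (((θ : IrrCharacter K) : K → ℂ) g) =
      BlocksDefect.red M ((θ₀ : K → ℂ) g) := by
    intro θ g
    obtain ⟨x, y, rfl, hxy, ⟨j, hx⟩, hy⟩ := exists_pPart (p := p) hM.1 g
    have h1 := fun η : IrrCharacter K =>
      CyclicRank.R_irr_regular (RingHom.id (BlocksDefect.Res M)) hM η hxy hx hy
    simp only [CyclicRank.R, RingHom.id_apply] at h1
    rw [h1, h1, hreg θ θ.2 y hy]
  have htr : ∀ k, π₀ ε k = 1 → ∃ a, ∀ x, tr k x = a * Λ x := by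
    intro k hk
    let ρ : Representation (BC85.Star.Res M) K (Fin (d k) → BC85.Star.Res M) :=
      Matrix.toLinAlgEquiv'.toMonoidHom.comp
        (((Pi.evalAlgHom (BC85.Star.Res M) _ k).comp π₀).toMonoidHom.comp
          (MonoidAlgebra.of (BC85.Star.Res M) K))
    have hρ : ∀ g, ρ g = Matrix.toLinAlgEquiv' (π₀ (MonoidAlgebra.of (BC85.Star.Res M) K g) k) :=
      fun g => rfl
    have hεsum : ε = ∑ g : K,
        BlocksDefect.red M (blockCoeff f g) • MonoidAlgebra.of (BC85.Star.Res M) K g := by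
      refine MonoidAlgebra.ext (Finsupp.ext fun g => ?_)
      rw [hεdef, coeff_emb hε.2, MonoidAlgebra.coeff_sum, Finsupp.finsetSum_apply]
      simp [Finsupp.single_apply]
    have hfix : ∑ g, BlocksDefect.red M (blockCoeff f g) • ρ g = 1 := by
      have h2 := congrArg Matrix.toLinAlgEquiv' hk
      rw [hεsum, map_sum, Finset.sum_apply, map_sum, map_one] at h2
      rw [← h2]
      exact Finset.sum_congr rfl fun g _ => by rw [hρ, map_smul, Pi.smul_apply, map_smul]
    obtain ⟨A, hA⟩ := CyclicDefect.trace_mem_span hM hf ρ hfix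
    refine ⟨∑ θ : f, A θ, fun x => ?_⟩
    induction x using MonoidAlgebra.induction_on with
    | of g =>
      rw [hΛg, Finset.sum_mul]
      show (π₀ (MonoidAlgebra.of (BC85.Star.Res M) K g) k).trace = _
      have h2 := hA g
      rw [hρ] at h2
      rw [← Matrix.trace_toLin'_eq]
      exact h2.trans (Finset.sum_congr rfl fun θ _ => by rw [hred])
    | add u w hu hw => rw [map_add, map_add, hu, hw, mul_add]
    | smul t u hu => rw [map_smul, map_smul, hu, smul_eq_mul, smul_eq_mul, mul_left_comm]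
  have hpre : ∀ k, ∃ z, tr k z = 1 ∧ ∀ k', k' ≠ k → tr k' z = 0 := by
    intro k
    have := hd k
    obtain ⟨z, hz⟩ := hπs (Pi.single k (Matrix.single 0 0 1))
    exact ⟨z, by simp [tr, hz], fun k' hk' => by simp [tr, hz, hk']⟩
  obtain ⟨a, ha⟩ := htr i hi
  obtain ⟨z, hz, hz'⟩ := hpre i
  have hΛz : Λ z ≠ 0 := fun h => by rw [ha, h, mul_zero] at hz; exact zero_ne_one hz
  have honly : ∀ k, k ≠ i → π₀ ε k = 0 := by
    intro k hk
    refine (hε' k).resolve_right fun hk1 => ?_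
    obtain ⟨b, hb⟩ := htr k hk1
    obtain ⟨w, hw, -⟩ := hpre k
    have h2 := hz' k hk
    rw [hb] at h2
    rw [hb, (mul_eq_zero.mp h2).resolve_right hΛz, zero_mul] at hw
    exact zero_ne_one hw
  refine ⟨d i, (Pi.evalAlgHom (BC85.Star.Res M) _ i).comp π₀, a, fun X => ?_, fun w => ?_,
    fun w hw h => hnilJ _ ((hπker w).mp (funext fun k => ?_))⟩
  · obtain ⟨w, hw⟩ := hπs (Pi.single i X)
    exact ⟨w, (congrFun hw i).trans (Pi.single_eq_same _ _)⟩
  · rw [← hΛ]
    exact ha w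
  · by_cases hk : k = i
    · subst hk; exact h
    · rw [← hw, map_mul, Pi.mul_apply, honly k hk, mul_zero, Pi.zero_apply]

omit [Fact p.Prime] in
theorem trace_eq_zero_of_isNilpotent {n : ℕ} {N : Matrix (Fin n) (Fin n) (BC85.Star.Res M)}
    (h : IsNilpotent N) : N.trace = 0 :=
  (Matrix.isNilpotent_trace_of_isNilpotent h).eq_zero

/-- The trace of a local idempotent of the block is prime to `p`. -/
theorem not_dvd_of_local (hM : IsPModular p M) {f : Set (IrrCharacter K)} (hf : IsPBlock M f)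
    {θ₀ : IrrCharacter K} (hθ₀ : θ₀ ∈ f)
    (hreg : ∀ θ ∈ f, ∀ s : K, ¬ p ∣ orderOf s → (θ : K → ℂ) s = (θ₀ : K → ℂ) s)
    {z₀ : KG M K} (hz₀ : IsIdempotentElem z₀) (hz₀0 : z₀ ≠ 0)
    (hz₀f : z₀ * emb M (blockCoeff f) = z₀)
    (hloc : ∀ x : KG M K, ∃ β : BC85.Star.Res M, IsNilpotent (z₀ * x * z₀ - β • z₀))
    {F : OG M K} (hF : red M K F = z₀) {n : ℕ} (hn : ntr F θ₀ = n) : ¬ p ∣ n := by
  intro hdvd
  have := BlocksDefect.charP_res (M := M) hM
  obtain ⟨d, R, a, hs, htr, hker⟩ := exists_simple hM hf hθ₀ hreg hz₀ hz₀0 hz₀f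
  have hθi : ∀ g, MemLocalRing M ((θ₀ : K → ℂ) g) := fun g => CyclicRank.memLocalRing_irr _ _
  have hsum : ∑ g : K, z₀.coeff g * BlocksDefect.red M ((θ₀ : K → ℂ) g) = (n : BC85.Star.Res M) := by
    rw [← BlocksDefect.red_natCast (M := M) n, ← hn]
    simp only [ntr, coefC]
    rw [BlocksDefect.red_sum _ fun g => (localRing M).mul_mem (F.coeff g).2 (hθi g)]
    refine Finset.sum_congr rfl fun g _ => ?_
    rw [BlocksDefect.red_mul (F.coeff g).2 (hθi g), ← hF, red_apply, BlocksDefect.red_coe]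
  set E := R z₀ with hE
  have hE2 : E * E = E := by rw [hE, ← map_mul, hz₀.eq]
  have htE : E.trace = 0 := by
    rw [hE, htr, hsum, (CharP.cast_eq_zero_iff (BC85.Star.Res M) p n).mpr hdvd, mul_zero]
  have hzero : ∀ X, (E * X).trace = 0 := by
    intro X
    obtain ⟨x, rfl⟩ := hs X
    obtain ⟨β, hβ⟩ := hloc x
    have h1 := trace_eq_zero_of_isNilpotent (hβ.map R)
    rw [map_sub, map_smul, map_mul, map_mul, ← hE, Matrix.trace_sub, Matrix.trace_smul, htE,
      smul_zero, sub_zero] at h1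
    rw [← h1, Matrix.trace_mul_comm (E * R x) E, ← mul_assoc, hE2]
  have hE0 : E = 0 := by
    ext i j
    simpa [Matrix.trace_mul_single] using hzero (Matrix.single j i 1)
  exact hz₀0 (eq_zero_of_idem_of_nilpotent hz₀ (hker z₀ hz₀f hE0))

/-- Two idempotents of the block are linked. -/
theorem exists_link (hM : IsPModular p M) {f : Set (IrrCharacter K)} (hf : IsPBlock M f)
    {θ₀ : IrrCharacter K} (hθ₀ : θ₀ ∈ f)
    (hreg : ∀ θ ∈ f, ∀ s : K, ¬ p ∣ orderOf s → (θ : K → ℂ) s = (θ₀ : K → ℂ) s)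
    {z₀ z₁ : KG M K} (hz₀ : IsIdempotentElem z₀) (hz₀0 : z₀ ≠ 0)
    (hz₀f : z₀ * emb M (blockCoeff f) = z₀) (hz₁ : IsIdempotentElem z₁) (hz₁0 : z₁ ≠ 0)
    (hz₁f : z₁ * emb M (blockCoeff f) = z₁) :
    ∃ x y : KG M K, ¬ IsNilpotent (z₀ * x * z₁ * y * z₀) := by
  obtain ⟨d, R, a, hs, -, hker⟩ := exists_simple hM hf hθ₀ hreg hz₀ hz₀0 hz₀f
  have hne : ∀ {z : KG M K}, IsIdempotentElem z → z ≠ 0 → z * emb M (blockCoeff f) = z →
      R z ≠ 0 := fun hz hz0 hzf h => hz0 (eq_zero_of_idem_of_nilpotent hz (hker _ hzf h))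
  obtain ⟨i, j, hij⟩ : ∃ i j, R z₀ i j ≠ 0 := by
    by_contra h
    push Not at h
    exact hne hz₀ hz₀0 hz₀f (Matrix.ext h)
  obtain ⟨k, l, hkl⟩ : ∃ i j, R z₁ i j ≠ 0 := by
    by_contra h
    push Not at h
    exact hne hz₁ hz₁0 hz₁f (Matrix.ext h)
  obtain ⟨x, hx⟩ := hs (Matrix.single j k 1)
  set N := R z₀ * R x * R z₁ with hN
  have hNil : N i l ≠ 0 := by
    rw [hN, hx, Matrix.mul_apply, Finset.sum_eq_single k, Matrix.mul_single_apply_same, mul_one]
    · exact mul_ne_zero hij hkl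
    · intro b _ hb
      rw [Matrix.mul_single_apply_of_ne _ _ _ _ _ hb, zero_mul]
    · simp
  obtain ⟨y, hy⟩ := hs (Matrix.single l i 1)
  refine ⟨x, y, fun hn => hNil ?_⟩
  have h1 := trace_eq_zero_of_isNilpotent (hn.map R)
  rw [show R (z₀ * x * z₁ * y * z₀) = N * R y * R z₀ by simp only [hN, map_mul],
    Matrix.trace_mul_comm, ← mul_assoc, show R z₀ * N = N by
      rw [hN, ← mul_assoc, ← mul_assoc, ← map_mul R z₀ z₀, hz₀.eq], hy] at h1
  simpa [Matrix.trace_mul_single] using h1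

end Cfsg.Agent.BlkChar.FreeAbelian
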