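import Cfsg.Agent.BlkChar.FreeAbelian.Gen
import Cfsg.Agent.BC85.Star.Blocks
import Cfsg.Agent.Lib.BlocksCore.SecondBlock
import Cfsg.Agent.Lib.BlocksDefect.Kulshammer

/-!
# Moving group algebra elements along a subgroup, and block idempotents
-/

set_option autoImplicit false
set_option linter.unusedSectionVars false
set_option linter.style.haveILetI false

namespace Cfsg.Agent.BlkChar.FreeAbelian

open BlocksCore BC85 BC85.Star
open BlocksDefect hiding red Res charP_res red_mul red_sum red_eq_zero red_natCast red_of_mem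
open scoped Classical ComplexConjugate

variable {G : Type*} [Group G] [Fintype G]

/-- The inclusion of the group algebra of a subgroup. -/
noncomputable abbrev incl (R : Type*) [Semiring R] (H : Subgroup G) :
    MonoidAlgebra R H →+* MonoidAlgebra R G :=
  MonoidAlgebra.mapDomainRingHom R H.subtype

theorem coeff_incl {R : Type*} [CommSemiring R] (H : Subgroup G) (b : MonoidAlgebra R H) (g : G) :
    (incl R H b).coeff g = if h : g ∈ H then b.coeff ⟨g, h⟩ else 0 := by
  conv_lhs => rw [show b = ∑ h : H, MonoidAlgebra.single h (b.coeff h) from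
    MonoidAlgebra.ext (Finsupp.ext fun g => by simp)]
  simp only [incl, map_sum, MonoidAlgebra.mapDomainRingHom_apply, MonoidAlgebra.mapDomain_single,
    MonoidAlgebra.coeff_sum, Finsupp.finsetSum_apply, MonoidAlgebra.coeff_single,
    Finsupp.single_apply, Subgroup.coe_subtype]
  split_ifs with h
  · rw [Finset.sum_eq_single ⟨g, h⟩]
    · rw [if_pos rfl]
    · intro b _ hb
      rw [if_neg fun he => hb (Subtype.ext he)]
    · exact fun h' => absurd (Finset.mem_univ _) h'
  · exact Finset.sum_eq_zero fun b _ => if_neg fun he => h (by rw [← he]; exact b.2)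

theorem incl_injective {R : Type*} [CommSemiring R] (H : Subgroup G) :
    Function.Injective (incl R H) :=
  MonoidAlgebra.mapDomain_injective Subtype.val_injective

theorem exists_preimage {R : Type*} [CommSemiring R] (H : Subgroup G) {a : MonoidAlgebra R G}
    (ha : ∀ g, a.coeff g ≠ 0 → g ∈ H) : ∃ b, incl R H b = a := by
  refine ⟨∑ h : H, MonoidAlgebra.single h (a.coeff (h : G)),
    MonoidAlgebra.ext (Finsupp.ext fun g => ?_)⟩
  rw [coeff_incl]
  split_ifs with h
  · simp [Finsupp.single_apply]
  · by_contra hne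
    exact h (ha g (Ne.symm hne))

theorem exists_preimage_br {k : Type*} [CommRing k] (Q : Subgroup G) (a : MonoidAlgebra k G) :
    ∃ b, incl k (Subgroup.centralizer (Q : Set G)) b = br Q a :=
  exists_preimage _ fun g hg => by
    by_contra h
    rw [coeff_br, if_neg h] at hg
    exact hg rfl

theorem incl_inclusion {R : Type*} [CommSemiring R] {H K : Subgroup G} (h : K ≤ H)
    (b : MonoidAlgebra R K) :
    incl R H (MonoidAlgebra.mapDomainRingHom R (Subgroup.inclusion h) b) = incl R K b := by
  conv_lhs => rw [show b = ∑ k : K, MonoidAlgebra.single k (b.coeff k) from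
    MonoidAlgebra.ext (Finsupp.ext fun g => by simp)]
  conv_rhs => rw [show b = ∑ k : K, MonoidAlgebra.single k (b.coeff k) from
    MonoidAlgebra.ext (Finsupp.ext fun g => by simp)]
  simp only [incl, map_sum, MonoidAlgebra.mapDomainRingHom_apply, MonoidAlgebra.mapDomain_single]
  rfl

theorem incl_cj {k : Type*} [CommRing k] (H : Subgroup G) (h : H) (b : MonoidAlgebra k H) :
    incl k H (cj h b) = cj (h : G) (incl k H b) := by
  simp only [cj, incl, map_mul, mapDomain_of, Subgroup.coe_subtype, InvMemClass.coe_inv]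

theorem fixd_of_incl {k : Type*} [CommRing k] (H : Subgroup G) {S : Set H}
    {b : MonoidAlgebra k H} (h : ∀ s ∈ S, cj (s : G) (incl k H b) = incl k H b) : Fixd S b :=
  fun s hs => incl_injective H (by rw [incl_cj, h s hs])

theorem incl_br {k : Type*} [CommRing k] {H : Subgroup G} (Z : Subgroup H) (R : Subgroup G)
    (hle : Subgroup.centralizer (R : Set G) ≤ H)
    (hc : ∀ h : H, (h : G) ∈ Subgroup.centralizer (R : Set G) ↔
      h ∈ Subgroup.centralizer (Z : Set H))
    (a : MonoidAlgebra k H) : incl k H (br Z a) = br R (incl k H a) := by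
  refine MonoidAlgebra.ext (Finsupp.ext fun g => ?_)
  rw [coeff_br, coeff_incl, coeff_incl]
  by_cases hg : g ∈ H
  · rw [dif_pos hg, dif_pos hg, coeff_br]
    by_cases h : g ∈ Subgroup.centralizer (R : Set G)
    · rw [if_pos h, if_pos ((hc ⟨g, hg⟩).mp h)]
    · rw [if_neg h, if_neg fun h' => h ((hc ⟨g, hg⟩).mpr h')]
  · rw [dif_neg hg, dif_neg hg, if_neg fun h => hg (hle h)]

variable {M : Ideal AlgInt} [hP : M.IsPrime]

theorem coeff_emb {K : Type*} [Group K] [Fintype K] {F : K → ℂ}
    (hF : ∀ g, MemLocalRing M (F g)) (g : K) :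
    (emb M F).coeff g = BlocksDefect.red M (F g) := by
  rw [emb, red_apply, BlocksDefect.red_of_mem (hF g)]
  refine congrArg _ (Subtype.ext ?_)
  rw [coe_coeff_embO hF]

theorem incl_emb (H : Subgroup G) {F : H → ℂ} {F' : G → ℂ} (hF : ∀ h, MemLocalRing M (F h))
    (hon : ∀ h : H, F' h = F h) (hoff : ∀ g, g ∉ H → F' g = 0) :
    incl (BC85.Star.Res M) H (emb M F) = emb M F' := by
  refine MonoidAlgebra.ext (Finsupp.ext fun g => ?_)
  rw [coeff_incl]
  split_ifs with h
  · have h2 : MemLocalRing M (F' g) := by rw [hon ⟨g, h⟩]; exact hF _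
    rw [coeff_emb hF, emb, red_apply, BlocksDefect.red_of_mem (hF _)]
    refine congrArg _ (Subtype.ext ?_)
    rw [embO, MonoidAlgebra.coeff_ofCoeff, Finsupp.equivFunOnFinite_symm_apply_apply, dif_pos h2]
    exact (hon ⟨g, h⟩).symm
  · exact (coeff_emb_eq_zero (hoff g h)).symm

variable {p : ℕ} [Fact p.Prime] {K : Type*} [Group K] [Fintype K]

/-- The idempotent of a block over the local ring. -/
noncomputable def bidem (M : Ideal AlgInt) [M.IsPrime] (f : Set (IrrCharacter K)) : OG M K :=
  embO M (blockCoeff f)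

theorem red_bidem (f : Set (IrrCharacter K)) : red M K (bidem M f) = emb M (blockCoeff f) := rfl

theorem bidem_idem (hM : IsPModular p M) {f : Set (IrrCharacter K)} (hf : IsPBlock M f) :
    IsIdempotentElem (bidem M f) := by
  show _ * _ = _
  rw [bidem, ← embO_conv (isIntClassFun_blockCoeff hM hf).2 (isIntClassFun_blockCoeff hM hf).2,
    conv_blockCoeff_self]

theorem commute_bidem (f : Set (IrrCharacter K)) (a : OG M K) : Commute a (bidem M f) := by
  rw [show a = ∑ k : K, a.coeff k • MonoidAlgebra.of (localRing M) K k from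
    MonoidAlgebra.ext (Finsupp.ext fun g => by simp)]
  refine Commute.sum_left _ _ _ fun k _ => Commute.smul_left ?_ _
  refine fixd_iff_commute.mp (fun u _ => ?_) k (Set.mem_univ k)
  rw [bidem, cj_embO]
  congr 1
  funext g
  have := isClassFunction_blockCoeff f g u⁻¹
  rwa [inv_inv] at this

theorem tau_eq_sum' {V : Type*} [AddCommGroup V] [Module ℂ V] (ρ : Representation ℂ K V)
    (a b : OG M K) : tau ρ (a * b) =
      ∑ y : K, coefC a y * ∑ z : K, coefC b z * ρ.character (y * z) := by
  rw [tau_eq_sum]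
  simp only [coefC, coe_coeff_mul, Finset.sum_mul, Finset.mul_sum]
  rw [Finset.sum_comm]
  refine Finset.sum_congr rfl fun y _ => ?_
  refine Fintype.sum_equiv (Equiv.mulLeft y⁻¹) _ _ fun x => ?_
  simp only [Equiv.coe_mulLeft, mul_inv_cancel_left]
  ring

/-- The idempotent of a block cuts out the characters of the block. -/
theorem tau_mul_bidem (hM : IsPModular p M) {f : Set (IrrCharacter K)} (hf : IsPBlock M f)
    {θ : IrrCharacter K} {n : ℕ} (ρ : Representation ℂ K (Fin n → ℂ))
    (hρ : (θ : K → ℂ) = ρ.character) (a : OG M K) :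
    tau ρ (a * bidem M f) = f.indicator 1 θ * tau ρ a := by
  have hcoe : ∀ z, coefC (bidem M f) z = blockCoeff f z := fun z =>
    coe_coeff_embO (isIntClassFun_blockCoeff hM hf).2 z
  rw [tau_eq_sum', tau_eq_sum]
  simp only [hcoe, ← hρ, Finset.mul_sum]
  refine Finset.sum_congr rfl fun y _ => ?_
  rw [← Finset.mul_sum]
  have h : ∑ z, blockCoeff f z * (θ : K → ℂ) (y * z) = ∑ z, blockCoeff f z * (θ : K → ℂ) (z * y) :=
    Finset.sum_congr rfl fun z _ => by
      rw [← irr_class θ (y * z) z, show z * (y * z) * z⁻¹ = z * y by group]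
  rw [h, sum_classFun_mul_translate θ (isClassFunction_blockCoeff f), omega_blockCoeff]
  ring

/-- The trace of an idempotent in a block vanishes on the characters outside. -/
theorem ntr_mul_bidem (hM : IsPModular p M) {f : Set (IrrCharacter K)} (hf : IsPBlock M f)
    (F : OG M K) {θ : IrrCharacter K} (hθ : θ ∉ f) : ntr (F * bidem M f) θ = 0 := by
  obtain ⟨χ, n, ρ, hρ, rfl⟩ := θ
  show ∑ k, coefC (F * bidem M f) k * ρ.character k = 0
  rw [← tau_eq_sum, tau_mul_bidem hM hf (θ := ⟨ρ.character, n, ρ, hρ, rfl⟩) ρ rfl,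
    Set.indicator_of_notMem hθ, zero_mul]

/-- Outside its block the trace of a fixed idempotent vanishes. -/
theorem val_eq_zero_of_notMem (hM : IsPModular p M) {f : Set (IrrCharacter K)} (hf : IsPBlock M f)
    {θ : IrrCharacter K} (hθ : θ ∉ f) {n : ℕ} (ρ : Representation ℂ K (Fin n → ℂ))
    (hρ : (θ : K → ℂ) = ρ.character) {u : K} {e : KG M K} (he : IsIdempotentElem e)
    (hfix : Fixd {u} e) (hef : e * emb M (blockCoeff f) = e) : val ρ u e = 0 := by
  obtain ⟨e', he', hf', hr⟩ := exists_idem_lift he hfix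
  have hc : Fixd {u} (bidem M f) := fixd_iff_commute.mpr fun v _ => commute_bidem f _
  rw [val_eq ρ (e := e' * bidem M f)
    (IsIdempotentElem.mul_of_commute (commute_bidem f e') he' (bidem_idem hM hf)) (hf'.mul hc)
    (by rw [map_mul, hr, red_bidem, hef]),
    ← mul_assoc, tau_mul_bidem hM hf ρ hρ, Set.indicator_of_notMem hθ, zero_mul]

end Cfsg.Agent.BlkChar.FreeAbelian
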